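import Cfsg.Agent.H983.TC.NumB
import Cfsg.Agent.H727.TC.MidB
import Cfsg.Agent.H727.TC.Row3
import Cfsg.Agent.H446.TC6.GTwoSing
import Cfsg.Agent.H447.TC.PPow

/-!
# `G₂(q)`, `q ≥ 7`: products of two classes from the middle characters (S2464, S2452; helper983)

`glue` : `x`, `y` in `G₂(q)` with centralizers of order prime to `p`; every nontrivial irreducible character `χ` with
`χ(x) χ(y) ≠ 0` takes integer values `c₁`, `c₂` there, `|c₁ c₂| ∈ {1, 2}`, `n_i ∣ χ(1) - c_i`, and there are at most five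
such characters: then every `g ≠ 1` lies in `x^G y^G`.
-/

set_option autoImplicit false

open Cfsg Subgroup

namespace Cfsg.Agent.H983.TC.Glue

open Cfsg.Agent.Characters Cfsg.Agent.H730.OZ Cfsg.Agent.H732.VZ Cfsg.Agent.H65.Ore Cfsg.Agent.H727.TC
open scoped ComplexConjugate

universe u

/-- weighted form of the sieve -/
theorem prd_of_midB_wt {G : Type u} [Group G] [Finite G] {p : ℕ} (hp : p.Prime) (hG : IsLieTypeChar p G)
    {x y g : G} (hg : p ∣ orderOf g) {n : ℕ} (hn : {χ : IrrCharacter G | IsMidB p x y χ}.ncard ≤ n) {κ : ℝ}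
    (hκ : 0 ≤ κ) (h1 : ∀ χ : IrrCharacter G, IsMidB p x y χ →
      (‖(χ : G → ℂ) x‖ * ‖(χ : G → ℂ) y‖ / ‖(χ : G → ℂ) 1‖) ^ 2 ≤ κ)
    (h : n * κ * ((Nat.card (centralizer ({g} : Set G)) : ℝ) - 1) < 1) : Prd x y g := by
  classical
  have : Fintype (IrrCharacter G) := @Fintype.ofFinite _ S0909.finite_irr
  have hcard : (Finset.univ.filter (IsMidB p x y)).card ≤ n := by
    refine le_trans (le_of_eq ?_) hn
    rw [Set.ncard_eq_toFinset_card']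
    congr 1
    ext χ
    simp
  apply prd_of_midB_lt hp hG hg
  have h2 := Finset.sum_mul_sq_le_sq_mul_sq (Finset.univ.filter (IsMidB p x y))
    (fun χ : IrrCharacter G => ‖(χ : G → ℂ) x‖ * ‖(χ : G → ℂ) y‖ / ‖(χ : G → ℂ) 1‖)
    (fun χ : IrrCharacter G => ‖(χ : G → ℂ) g‖)
  have hc : (0 : ℝ) ≤ (Nat.card (Subgroup.centralizer ({g} : Set G)) : ℝ) - 1 := by
    have : 1 ≤ Nat.card (Subgroup.centralizer ({g} : Set G)) := Nat.card_pos
    have : (1 : ℝ) ≤ (Nat.card (Subgroup.centralizer ({g} : Set G)) : ℝ) := by exact_mod_cast this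
    linarith
  have h3 : ∑ χ ∈ Finset.univ.filter (IsMidB p x y),
      (‖(χ : G → ℂ) x‖ * ‖(χ : G → ℂ) y‖ / ‖(χ : G → ℂ) 1‖) ^ 2 ≤ (n : ℝ) * κ :=
    calc ∑ χ ∈ Finset.univ.filter (IsMidB p x y), (‖(χ : G → ℂ) x‖ * ‖(χ : G → ℂ) y‖ / ‖(χ : G → ℂ) 1‖) ^ 2
        ≤ ∑ _χ ∈ Finset.univ.filter (IsMidB p x y), κ :=
          Finset.sum_le_sum fun χ hχ => h1 χ (Finset.mem_filter.1 hχ).2
      _ = ((Finset.univ.filter (IsMidB p x y)).card : ℝ) * κ := by simp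
      _ ≤ n * κ := mul_le_mul_of_nonneg_right (by exact_mod_cast hcard) hκ
  have h4 : (∑ χ ∈ Finset.univ.filter (IsMidB p x y),
      ‖(χ : G → ℂ) x‖ * ‖(χ : G → ℂ) y‖ / ‖(χ : G → ℂ) 1‖ * ‖(χ : G → ℂ) g‖) ^ 2 < 1 ^ 2 := by
    rw [one_pow]
    refine h2.trans_lt (lt_of_le_of_lt ?_ h)
    exact mul_le_mul h3 sum_midB_sq_le (Finset.sum_nonneg fun _ _ => by positivity) (by positivity)
  have h5 := lt_of_pow_lt_pow_left₀ 2 zero_le_one h4
  refine lt_of_le_of_lt (le_of_eq (Finset.sum_congr rfl fun χ _ => ?_)) h5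
  ring

variable {F : Type} [Field F] [Fintype F]

theorem glue (p : ℕ) [hp : Fact p.Prime] [CharP F p] (h7 : 7 ≤ Fintype.card F)
    {x y : ↥(Lie.chevG2.group F)} (hx : ¬ p ∣ Nat.card (centralizer ({x} : Set ↥(Lie.chevG2.group F))))
    (hy : ¬ p ∣ Nat.card (centralizer ({y} : Set ↥(Lie.chevG2.group F)))) {n1 n2 e1 e2 : ℕ}
    (hn1 : n1 * e1 = Fintype.card F ^ 2 + Fintype.card F + 1) (he1 : e1 ∣ 3)
    (hn2 : n2 * e2 = Fintype.card F ^ 2 - Fintype.card F + 1) (he2 : e2 ∣ 3)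
    (hn : {χ : IrrCharacter ↥(Lie.chevG2.group F) | χ ≠ one1 _ ∧ (χ : ↥(Lie.chevG2.group F) → ℂ) x ≠ 0 ∧
      (χ : ↥(Lie.chevG2.group F) → ℂ) y ≠ 0}.ncard ≤ 5)
    (hA : ∀ χ : IrrCharacter ↥(Lie.chevG2.group F), χ ≠ one1 _ → (χ : ↥(Lie.chevG2.group F) → ℂ) x ≠ 0 →
      (χ : ↥(Lie.chevG2.group F) → ℂ) y ≠ 0 → ∃ c1 c2 : ℤ, (χ : ↥(Lie.chevG2.group F) → ℂ) x = c1 ∧
        (χ : ↥(Lie.chevG2.group F) → ℂ) y = c2 ∧ (|c1 * c2| = 1 ∨ |c1 * c2| = 2) ∧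
        (n1 : ℤ) ∣ charDegree (χ : ↥(Lie.chevG2.group F) → ℂ) - c1 ∧
        (n2 : ℤ) ∣ charDegree (χ : ↥(Lie.chevG2.group F) → ℂ) - c2)
    (g : ↥(Lie.chevG2.group F)) (hg : g ≠ 1) : ∃ u v : ↥(Lie.chevG2.group F), g = (u * x * u⁻¹) * (v * y * v⁻¹) := by
  classical
  have hG : IsLieTypeChar p ↥(Lie.chevG2.group F) := H447.TC.lie_g2 p (by omega)
  obtain ⟨f, -, hf⟩ := FiniteField.card F p
  have hcardG : Nat.card ↥(Lie.chevG2.group F) =
      Fintype.card F ^ 6 * (Fintype.card F ^ 2 - 1) * (Fintype.card F ^ 6 - 1) := S1059.result rfl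
  by_cases ho : p ∣ orderOf g
  swap
  · obtain ⟨u, v, e⟩ := H330.Gow.gow hp.out hG hx hy hg ho
    exact ⟨u, v, e.symm⟩
  have hpG : p ∣ Nat.card ↥(Lie.chevG2.group F) := ho.trans (orderOf_dvd_natCard g)
  have hsub : {χ : IrrCharacter ↥(Lie.chevG2.group F) | IsMidB p x y χ}.ncard ≤ 5 := by
    refine le_trans (Set.ncard_le_ncard ?_ ?_) hn
    · rintro χ ⟨h1, -, h2, h3⟩
      exact ⟨h1, h2, h3⟩
    · have : Finite (IrrCharacter ↥(Lie.chevG2.group F)) := S0909.finite_irr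
      exact Set.toFinite _
  set q := Fintype.card F with hqdef
  have hq1 : (1 : ℝ) ≤ (q : ℝ) := by exact_mod_cast (by omega : 1 ≤ q)
  have hq8 : (0 : ℝ) < (q : ℝ) ^ 8 := by positivity
  refine prd_of_midB_wt hp.out hG ho hsub (κ := 1 / (5 * (q : ℝ) ^ 8)) (by positivity) (fun χ hχ => ?_) ?_
  · obtain ⟨h1, -, h2, h3⟩ := hχ
    obtain ⟨c1, c2, k1, k2, k3, k4, k5⟩ := hA χ h1 h2 h3
    have hD0 : 0 < charDegree (χ : ↥(Lie.chevG2.group F) → ℂ) := Blocks.Basic.charDegree_pos χ.2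
    have hDd : charDegree (χ : ↥(Lie.chevG2.group F) → ℂ) ∣ q ^ 6 * ((q ^ 2 - 1) * (q ^ 6 - 1)) := by
      rw [← mul_assoc, ← hcardG]
      exact H674.Codegree.charDegree_dvd_card χ.2
    have hchi1 : ‖(χ : ↥(Lie.chevG2.group F) → ℂ) 1‖ = (charDegree (χ : ↥(Lie.chevG2.group F) → ℂ) : ℝ) := by
      rw [← H686.CharKit.charDegree_irr χ, Complex.norm_natCast]
    rcases Num.deg_sq hp.out hf h7 hn1 he1 hn2 he2 hD0 hDd k3 k4 k5 with h | h | h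
    · exfalso
      have h4 := eq_of_pow hp.out hG h1 (a := 0) (by rw [h, pow_zero])
      have h5 := (hp.out.dvd_iff_one_le_factorization Nat.card_pos.ne').1 hpG
      omega
    · exact absurd h (H447.TC.g2_ne_cube (by omega) χ)
    · rw [hchi1, k1, k2, Complex.norm_intCast, Complex.norm_intCast, ← abs_mul, div_pow, sq_abs]
      have hDr : (0 : ℝ) < (charDegree (χ : ↥(Lie.chevG2.group F) → ℂ) : ℝ) := by exact_mod_cast hD0
      rw [div_le_div_iff₀ (by positivity) (by positivity), one_mul]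
      have h6 : (((5 * (c1 * c2) ^ 2 * (q : ℤ) ^ 8 : ℤ)) : ℝ) ≤
          (((charDegree (χ : ↥(Lie.chevG2.group F) → ℂ) : ℤ) ^ 2 : ℤ) : ℝ) := by exact_mod_cast h
      push_cast at h6
      linarith
  · have h1 := H446.TC6.GTwoCent.card_cent_le_of_dvd F p ho
    have h2 : q ^ 6 * (q ^ 2 - 1) ≤ q ^ 8 := by
      calc q ^ 6 * (q ^ 2 - 1) ≤ q ^ 6 * q ^ 2 := Nat.mul_le_mul_left _ (Nat.sub_le _ _)
        _ = q ^ 8 := by ring
    have h3 : (Nat.card (centralizer ({g} : Set ↥(Lie.chevG2.group F))) : ℝ) ≤ (q : ℝ) ^ 8 := by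
      exact_mod_cast h1.trans h2
    have h4 : ((5 : ℕ) : ℝ) * (1 / (5 * (q : ℝ) ^ 8)) = 1 / (q : ℝ) ^ 8 := by
      push_cast
      field_simp
    rw [h4, one_div, inv_mul_lt_iff₀ hq8]
    linarith

end Cfsg.Agent.H983.TC.Glue
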