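import Cfsg.Agent.H347.TC.GFive
import Cfsg.Agent.H347.TC.LongIdx
import Cfsg.Agent.H97.TC.G2Cent
import Cfsg.Agent.H727.TC.Row3
import Cfsg.Agent.H983.TC.Glue
import Cfsg.Agent.H210.TC.Row

/-!
# S2452, the row `G₂(5)` (helper983)

`x` of order `31`, `y` of order `7`: every `g ≠ 1` is a product of a conjugate of `x` and a conjugate of `y`.
-/

set_option autoImplicit false

open Cfsg Subgroup

namespace Cfsg.Agent.H983.TC.Five

open Cfsg.Lie Cfsg.Agent.Characters Cfsg.Agent.H65.Ore Cfsg.Agent.H332.TC.GP Cfsg.Agent.H727.TC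
open Cfsg.Agent.H347.TC.GFive

universe u

section abs

variable {G : Type u} [Group G] [Finite G]

/-- the elements of `A` are conjugate -/
theorem conj_of_tor {m n w : ℕ} {A T : Subgroup G} (h : H641.TC6.TorD G m n w A T) (hn : n ≤ w + 1) (hm : 0 < m)
    {a b : G} (ha : a ∈ A) (ha1 : a ≠ 1) (hb : b ∈ A) (hb1 : b ≠ 1) : IsConj a b := by
  classical
  have := Fintype.ofFinite G
  set S : Finset G := Finset.univ.filter fun g : G => g ∈ normalizer (A : Set G) with hS
  have hSc : S.card = w * m := by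
    rw [← h.cardN, hS, Nat.card_eq_fintype_card, Fintype.card_subtype]
  have h1 : S.card ≤ m * (S.image fun g => g * a * g⁻¹).card := by
    refine Finset.card_le_mul_card_image S m fun c hc => ?_
    obtain ⟨g₀, hg₀, rfl⟩ := Finset.mem_image.1 hc
    have h2 : (S.filter fun g => g * a * g⁻¹ = g₀ * a * g₀⁻¹).card ≤
        (Finset.univ.filter fun g : G => g ∈ centralizer ({a} : Set G)).card := by
      refine Finset.card_le_card_of_injOn (fun g => g₀⁻¹ * g) (fun g hg => ?_) (fun g _ g' _ e => mul_left_cancel e)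
      have h3 : g * a * g⁻¹ = g₀ * a * g₀⁻¹ := (Finset.mem_filter.1 hg).2
      refine Finset.mem_coe.2 (Finset.mem_filter.2 ⟨Finset.mem_univ _, mem_centralizer_singleton_iff.2 ?_⟩)
      calc g₀⁻¹ * g * a = g₀⁻¹ * (g * a * g⁻¹) * g := by group
        _ = g₀⁻¹ * (g₀ * a * g₀⁻¹) * g := by rw [h3]
        _ = a * (g₀⁻¹ * g) := by group
    refine h2.trans (le_of_eq ?_)
    rw [← Fintype.card_subtype, ← Nat.card_eq_fintype_card]
    have h4 : Nat.card ↥(centralizer ({a} : Set G)) = m := by rw [h.cent a ha ha1, h.cardT]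
    exact h4
  rw [hSc, mul_comm m] at h1
  have h2 : w ≤ (S.image fun g => g * a * g⁻¹).card := Nat.le_of_mul_le_mul_right h1 hm
  have h3 : (S.image fun g => g * a * g⁻¹) ⊆ (Finset.univ.filter fun g : G => g ∈ A).erase 1 := by
    intro c hc
    obtain ⟨g, hg, rfl⟩ := Finset.mem_image.1 hc
    have hg' : g ∈ normalizer (A : Set G) := (Finset.mem_filter.1 hg).2
    refine Finset.mem_erase.2 ⟨fun h4 => ha1 (conj_eq_one_iff.1 h4), Finset.mem_filter.2 ⟨Finset.mem_univ _, ?_⟩⟩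
    exact (mem_normalizer_iff.1 hg' a).1 ha
  have h4 : ((Finset.univ.filter fun g : G => g ∈ A).erase 1).card = n - 1 := by
    rw [Finset.card_erase_of_mem (Finset.mem_filter.2 ⟨Finset.mem_univ _, A.one_mem⟩), ← Fintype.card_subtype,
      ← Nat.card_eq_fintype_card]
    congr 1
    exact h.cardA
  have h5 := Finset.eq_of_subset_of_card_le h3 (by omega)
  have h6 : b ∈ S.image fun g => g * a * g⁻¹ := by
    rw [h5]
    exact Finset.mem_erase.2 ⟨hb1, Finset.mem_filter.2 ⟨Finset.mem_univ _, hb⟩⟩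
  obtain ⟨g, -, hg⟩ := Finset.mem_image.1 h6
  exact isConj_iff.2 ⟨g, hg⟩

omit [Finite G] in
theorem prd_conj {x y t g : G} (h : Prd x y t) (ht : IsConj t g) : Prd x y g := by
  obtain ⟨c, rfl⟩ := isConj_iff.1 ht
  obtain ⟨u, v, rfl⟩ := h
  exact ⟨c * u, c * v, by group⟩

end abs

theorem chkF : ∀ d ∈ H347.TC.FiveNum.dv, (d % 31 = 1 ∨ d % 31 = 30) → d % 7 ≠ 0 → 100 ≤ d → d ≠ 125 → d ≠ 216 →
    900 ≤ d := by
  decide +kernel

theorem chkE : ∀ d ∈ H347.TC.FiveNum.dv, (d % 31 = 6 ∨ d % 31 = 25) → (d % 7 = 1 ∨ d % 7 = 6) → 100 ≤ d →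
    750 ≤ d := by
  decide +kernel

variable {F : Type} [Field F] [Fintype F]

set_option maxHeartbeats 2000000 in
/-- **S2452, row `G₂(5)`.** -/
theorem row3_g2_five_b (hFt : Fintype.card F = 5) : H210.TC.Row3 ↥(chevG2.group F) := by
  classical
  have hF : Nat.card F = 5 := by rw [Nat.card_eq_fintype_card, hFt]
  have hfin : Finite ↥(chevG2.group F) := inferInstance
  have hp5 : Nat.Prime 5 := by norm_num
  have hp7 : Nat.Prime 7 := by norm_num
  have hp31 : Nat.Prime 31 := by norm_num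
  have : Fact (Nat.Prime 5) := ⟨hp5⟩
  have : Fact (Nat.Prime 31) := ⟨hp31⟩
  have h5 : ((5 : ℕ) : F) = 0 := by
    rw [← hFt]
    exact FiniteField.cast_card_eq_zero F
  have : CharP F 5 := (CharP.charP_iff_prime_eq_zero hp5).2 h5
  have hne : ∀ n : ℕ, 0 < n → n < 5 → (n : F) ≠ 0 := by
    intro n hn hn5 h
    have := (CharP.cast_eq_zero_iff F 5 n).1 h
    exact absurd (Nat.le_of_dvd hn this) (by omega)
  have h2 : (2 : F) ≠ 0 := by exact_mod_cast hne 2 (by norm_num) (by norm_num)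
  have h3 : (3 : F) ≠ 0 := by exact_mod_cast hne 3 (by norm_num) (by norm_num)
  have hsimple : IsSimpleGroup ↥(chevG2.group F) := by
    refine (S1055.result (F := F) ⟨2, h2, fun h => ?_⟩).1
    have : (1 : F) = 0 := by linear_combination h
    exact one_ne_zero this
  have hcard : Nat.card ↥(chevG2.group F) = 5859000000 := by
    rw [S1059.result hFt]
    norm_num
  -- the torus of order 31
  obtain ⟨A, T, hT⟩ := H641.TC6.tor3_G2 (F := F) (q := 5) hFt (by norm_num)
  have eN : H946.Num.N3 5 = 31 := by decide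
  have ec : H983.KG2.c3 5 = 31 := by decide
  rw [eN, ec] at hT
  obtain ⟨P, hP, hPc, hPC, hPi⟩ := sylow_of_tor hp31 hT (by rw [hcard]; norm_num)
  have : Finite (IrrCharacter ↥(chevG2.group F)) := Core.finite_irr
  have := Fintype.ofFinite (IrrCharacter ↥(chevG2.group F))
  obtain ⟨B⟩ := exists_blk (r := 31) (by norm_num) hP hPC hPi (t := 5) (by norm_num)
  -- the torus of order 21
  obtain ⟨A', T', hT'⟩ := H641.TC6.tor6_G2 (F := F) (q := 5) hFt (by norm_num)
  have eN' : H946.Num.N6 5 = 21 := by decide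
  have ec' : H983.KG2.c6 5 = 7 := by decide
  rw [eN', ec'] at hT'
  obtain ⟨y, hy, hy1⟩ : ∃ y ∈ A', y ≠ 1 := by
    by_contra hcon
    push Not at hcon
    have h4 : A' = ⊥ := (Subgroup.eq_bot_iff_forall _).2 hcon
    have h5 := hT'.cardA
    rw [h4, Subgroup.card_bot] at h5
    exact absurd h5 (by norm_num)
  have hord : ∀ z ∈ A', z ≠ 1 → orderOf z = 7 := by
    intro z hz hz1
    have h4 : orderOf z ∣ 7 := by
      rw [← hT'.cardA]
      have := orderOf_dvd_natCard (⟨z, hz⟩ : A')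
      rwa [Subgroup.orderOf_mk] at this
    rcases (Nat.dvd_prime hp7).1 h4 with h | h
    · exact absurd (orderOf_eq_one_iff.1 h) hz1
    · exact h
  have hyo : orderOf y = 7 := hord y hy hy1
  have hyc : Nat.card (centralizer ({y} : Set ↥(chevG2.group F))) = 21 := by rw [hT'.cent y hy hy1, hT'.cardT]
  have hyr : ∀ k, ¬ 7 ∣ k → IsConj y (y ^ k) := by
    intro k hk
    refine conj_of_tor hT' (by norm_num) (by norm_num) hy hy1 (A'.pow_mem hy k) fun h => hk ?_
    rw [← hyo]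
    exact orderOf_dvd_of_pow_eq_one h
  have hEne : B.E.Nonempty := Finset.card_pos.1 (by rw [B.cE]; norm_num)
  obtain ⟨v, w, D, hv, hvD, hED, hwD, hDm, hDG, hs1, hs2, hs3⟩ :=
    B.vals (n := 1) hp31 hEne hp7 (by norm_num) (by rw [hyo, pow_one]) hyr hyc
  have hne1 : ∀ χ : IrrCharacter ↥(chevG2.group F), χ ≠ one1 _ → 100 ≤ charDegree (χ : ↥(chevG2.group F) → ℂ) ∧
      charDegree (χ : ↥(chevG2.group F) → ℂ) ≠ 192 ∧ charDegree (χ : ↥(chevG2.group F) → ℂ) ≠ 216 :=
    fun χ hχ => deg_ne hF χ (coe_ne_one hχ)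
  have hE1 : ∀ Θ ∈ B.E, Θ ≠ one1 _ := fun Θ hΘ h => Finset.disjoint_left.1 B.dis B.one (h ▸ hΘ)
  obtain ⟨Θ₀, hΘ₀⟩ := hEne
  have hD0 := hne1 Θ₀ (hE1 Θ₀ hΘ₀)
  rw [hED Θ₀ hΘ₀] at hD0
  -- the degrees in `F`
  have hFdeg : ∀ χ ∈ B.F.erase (one1 _), v χ ≠ 0 → 900 ≤ charDegree (χ : ↥(chevG2.group F) → ℂ) := by
    intro χ hχ hv0
    obtain ⟨hχ1, hχF⟩ := Finset.mem_erase.1 hχ
    have h4 := H347.TC.FiveNum.mem_dv (by rw [← hcard]; exact Blocks.Knorr.charDegree_dvd χ.2 :
      charDegree (χ : ↥(chevG2.group F) → ℂ) ∣ 5859000000)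
    obtain ⟨m, hm⟩ := B.resF χ hχF
    have h6 := hne1 χ hχ1
    have h7 : charDegree (χ : ↥(chevG2.group F) → ℂ) ≠ 125 := by
      have := H447.TC.g2_ne_cube (F := F) (by omega) χ
      rw [hFt] at this
      exact this
    have h8 : v χ ^ 2 ≤ 20 := by
      have h9 := Finset.single_le_sum (f := fun i => v i ^ 2) (fun _ _ => by positivity) hχ
      have h10 : (0 : ℤ) ≤ 5 * w ^ 2 := by positivity
      push_cast at hs2
      linarith
    have h9 : -5 < v χ ∧ v χ < 5 := by constructor <;> nlinarith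
    obtain ⟨k, hk⟩ := hvD χ
    push_cast at hk hm
    refine chkF _ h4 ?_ ?_ h6.1 h7 h6.2.2
    · rcases B.sg χ hχF with h | h <;> rw [h] at hm <;> omega
    · omega
  -- the value on `E`
  have hw1 : w = 0 ∨ w = 1 ∨ w = -1 := by
    have hS0 : (0 : ℤ) ≤ ∑ χ ∈ B.F.erase (one1 _), v χ ^ 2 := Finset.sum_nonneg fun _ _ => by positivity
    push_cast at hs2
    have h4 : -3 < w ∧ w < 3 := by constructor <;> nlinarith
    have h6 : w = 0 ∨ w = 1 ∨ w = -1 ∨ w = 2 ∨ w = -2 := by omega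
    rcases h6 with h | h | h | h
    · exact Or.inl h
    · exact Or.inr (Or.inl h)
    · exact Or.inr (Or.inr h)
    · exfalso
      have hw4 : w ^ 2 = 4 := by rcases h with h | h <;> rw [h] <;> norm_num
      rw [hw4] at hs2
      have h7 : ∑ χ ∈ B.F.erase (one1 _), v χ ^ 2 = 0 := by linarith
      have h8 := (Finset.sum_eq_zero_iff_of_nonneg fun _ _ => by positivity).1 h7
      rw [Finset.sum_eq_zero fun χ hχ => by rw [pow_eq_zero_iff two_ne_zero |>.1 (h8 χ hχ), mul_zero]] at hs1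
      rcases B.hd with h9 | h9 <;> rw [h9] at hs1 <;> omega
  have hEdeg : w ≠ 0 → 750 ≤ D := by
    intro hw0
    obtain ⟨m, hm⟩ := hDm
    obtain ⟨k, hk⟩ := hwD
    push_cast at hk hm
    refine chkE _ (H347.TC.FiveNum.mem_dv (by rw [← hcard]; exact hDG)) ?_ ?_ hD0.1
    · rcases B.hd with h | h <;> rw [h] at hm <;> omega
    · rcases hw1 with h | h | h
      · exact absurd h hw0
      · rw [h] at hk; omega
      · rw [h] at hk; omega
  -- the element of order 31
  obtain ⟨x, hx, hx1⟩ : ∃ x ∈ (P : Subgroup ↥(chevG2.group F)), x ≠ 1 := by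
    by_contra hcon
    push Not at hcon
    have h4 : (P : Subgroup ↥(chevG2.group F)) = ⊥ := (Subgroup.eq_bot_iff_forall _).2 hcon
    rw [h4, Subgroup.card_bot] at hP
    exact absurd hP (by norm_num)
  have hxo : orderOf x = 31 := by
    have h4 : orderOf x ∣ 31 := by
      rw [← hP]
      have := orderOf_dvd_natCard (⟨x, hx⟩ : (P : Subgroup ↥(chevG2.group F)))
      rwa [Subgroup.orderOf_mk] at this
    rcases (Nat.dvd_prime hp31).1 h4 with h | h
    · exact absurd (orderOf_eq_one_iff.1 h) hx1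
    · exact h
  have hcx : Nat.card (centralizer ({x} : Set ↥(chevG2.group F))) = 31 := by rw [hPc x hx hx1, hP]
  have hG : IsLieTypeChar 5 ↥(chevG2.group F) := H447.TC.lie_g2 5 (by omega)
  have h5x : ¬ 5 ∣ Nat.card (centralizer ({x} : Set ↥(chevG2.group F))) := by rw [hcx]; norm_num
  have h5y : ¬ 5 ∣ Nat.card (centralizer ({y} : Set ↥(chevG2.group F))) := by rw [hyc]; norm_num
  -- the bound
  set W : ℝ := (w : ℝ) ^ 2 with hW
  have hWle : W ≤ 1 := by
    rw [hW]
    rcases hw1 with h | h | h <;> rw [h] <;> norm_num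
  have hW0 : 0 ≤ W := by positivity
  have hdeg : ∀ χ : IrrCharacter ↥(chevG2.group F), ‖(χ : ↥(chevG2.group F) → ℂ) 1‖ =
      (charDegree (χ : ↥(chevG2.group F) → ℂ) : ℝ) := by
    intro χ
    rw [Blocks.Knorr.charDegree_eq χ.2, Complex.norm_natCast]
  have hxsum : ∑ χ ∈ B.E, ‖(χ : ↥(chevG2.group F) → ℂ) x‖ ^ 2 ≤ 25 := by
    have h4 := H210.TC.Pair.sq_norm_cent x
    rw [hcx] at h4
    have h6 : ∑ χ ∈ B.F ∪ B.E, ‖(χ : ↥(chevG2.group F) → ℂ) x‖ ^ 2 ≤
        ∑ χ : IrrCharacter ↥(chevG2.group F), ‖(χ : ↥(chevG2.group F) → ℂ) x‖ ^ 2 :=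
      Finset.sum_le_sum_of_subset_of_nonneg (Finset.subset_univ _) fun _ _ _ => by positivity
    have h7 : ∑ χ ∈ B.F, ‖(χ : ↥(chevG2.group F) → ℂ) x‖ ^ 2 = 6 := by
      rw [Finset.sum_congr rfl (g := fun _ => (1 : ℝ)) fun χ hχ => by
        rw [B.val χ hχ x hx hx1]
        rcases B.sg χ hχ with h | h <;> rw [h] <;> norm_num, Finset.sum_const, B.cF]
      norm_num
    rw [Finset.sum_union B.dis, h7, h4] at h6
    push_cast at h6
    linarith
  have hmid : ∑ χ ∈ Finset.univ.filter (IsMidB 5 x y),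
      (‖(χ : ↥(chevG2.group F) → ℂ) x‖ * ‖(χ : ↥(chevG2.group F) → ℂ) y‖ / ‖(χ : ↥(chevG2.group F) → ℂ) 1‖) ^ 2 ≤
      (20 - 5 * W) / 810000 + 25 * W / 562500 := by
    have hsub : Finset.univ.filter (IsMidB 5 x y) ⊆ B.F.erase (one1 _) ∪ B.E := by
      intro χ hχ
      obtain ⟨h4, -, h6, -⟩ := (Finset.mem_filter.1 hχ).2
      rw [Finset.mem_union, Finset.mem_erase]
      by_contra h7
      rw [not_or, not_and] at h7
      exact h6 (B.van χ (h7.1 h4) h7.2 x hx hx1)
    refine (Finset.sum_le_sum_of_subset_of_nonneg hsub fun _ _ _ => by positivity).trans ?_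
    rw [Finset.sum_union (Finset.disjoint_of_subset_left (Finset.erase_subset _ _) B.dis)]
    refine add_le_add ?_ ?_
    · have h4 : ∀ χ ∈ B.F.erase (one1 _), (‖(χ : ↥(chevG2.group F) → ℂ) x‖ *
          ‖(χ : ↥(chevG2.group F) → ℂ) y‖ / ‖(χ : ↥(chevG2.group F) → ℂ) 1‖) ^ 2 ≤ ((v χ : ℝ) ^ 2) / 810000 := by
        intro χ hχ
        have h6 : ‖(χ : ↥(chevG2.group F) → ℂ) x‖ = 1 := by
          rw [B.val χ (Finset.mem_erase.1 hχ).2 x hx hx1]
          rcases B.sg χ (Finset.mem_erase.1 hχ).2 with h | h <;> rw [h] <;> norm_num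
        rw [h6, one_mul, hv χ, hdeg χ, Complex.norm_intCast, div_pow, sq_abs]
        by_cases h7 : v χ = 0
        · rw [h7]; norm_num
        · have h8 := hFdeg χ hχ h7
          have h9 : (900 : ℝ) ≤ (charDegree (χ : ↥(chevG2.group F) → ℂ) : ℝ) := by exact_mod_cast h8
          have h10 : (810000 : ℝ) ≤ (charDegree (χ : ↥(chevG2.group F) → ℂ) : ℝ) ^ 2 := by nlinarith
          exact div_le_div_of_nonneg_left (by positivity) (by norm_num) h10
      refine (Finset.sum_le_sum h4).trans ?_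
      rw [← Finset.sum_div]
      refine div_le_div_of_nonneg_right ?_ (by norm_num)
      have h6 : ((∑ χ ∈ B.F.erase (one1 _), v χ ^ 2 + (5 : ℕ) * w ^ 2 : ℤ) : ℝ) ≤ (((21 : ℕ) : ℤ) - 1 : ℤ) := by
        exact_mod_cast hs2
      push_cast at h6
      rw [hW]
      linarith
    · have h4 : ∀ χ ∈ B.E, (‖(χ : ↥(chevG2.group F) → ℂ) x‖ *
          ‖(χ : ↥(chevG2.group F) → ℂ) y‖ / ‖(χ : ↥(chevG2.group F) → ℂ) 1‖) ^ 2 ≤
          ‖(χ : ↥(chevG2.group F) → ℂ) x‖ ^ 2 * (W / 562500) := by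
        intro χ hχ
        have hvw : (χ : ↥(chevG2.group F) → ℂ) y = w := by
          have h6 := B.sum χ hχ y (by rw [hyo]; norm_num)
          have h7 : ((∑ χ ∈ B.F.erase (one1 _), B.ε χ * v χ : ℤ) : ℂ) = ((B.d * w - 1 : ℤ) : ℂ) := by
            exact_mod_cast hs1
          rw [← Finset.add_sum_erase _ _ B.one, B.ε1, one1_apply] at h6
          have h8 : ∑ χ ∈ B.F.erase (one1 _), (B.ε χ : ℂ) * (χ : ↥(chevG2.group F) → ℂ) y = B.d * w - 1 := by
            push_cast at h7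
            rw [← h7]
            exact Finset.sum_congr rfl fun χ _ => by rw [hv]
          rw [h8] at h6
          push_cast at h6
          linear_combination (-(B.d : ℂ)) * h6 + ((w : ℂ) - (χ : ↥(chevG2.group F) → ℂ) y) * B.dd
        rw [hvw, hdeg χ, hED χ hχ, Complex.norm_intCast, mul_div_assoc, mul_pow]
        refine mul_le_mul_of_nonneg_left ?_ (by positivity)
        rw [div_pow, sq_abs, ← hW]
        by_cases h7 : w = 0
        · rw [hW, h7]; norm_num
        · have h8 := hEdeg h7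
          have h9 : (750 : ℝ) ≤ (D : ℝ) := by exact_mod_cast h8
          have h10 : (562500 : ℝ) ≤ (D : ℝ) ^ 2 := by nlinarith
          exact div_le_div_of_nonneg_left (by positivity) (by norm_num) h10
      refine (Finset.sum_le_sum h4).trans ?_
      rw [← Finset.sum_mul]
      calc (∑ χ ∈ B.E, ‖(χ : ↥(chevG2.group F) → ℂ) x‖ ^ 2) * (W / 562500) ≤ 25 * (W / 562500) :=
            mul_le_mul_of_nonneg_right hxsum (by positivity)
        _ = 25 * W / 562500 := by ring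
  -- products
  have key : ∀ g : ↥(chevG2.group F), g ≠ 1 → Prd x y g := by
    intro g hg
    by_cases ho : 5 ∣ orderOf g
    swap
    · obtain ⟨u, v, e⟩ := H330.Gow.gow hp5 hG h5x h5y hg ho
      exact ⟨u, v, e.symm⟩
    rcases H97.TC.G2C.card_cent_sing F 5 h2 h3 ho with h4 | h4
    · refine prd_conj (prd_of_coprime_class hp5 hG h5x h5y ?_ ?_ (H347.TC.RegU.not_dvd_index (F := F) 5 1)) h4
      · intro h6
        obtain ⟨c, hc⟩ := isConj_iff.1 h6
        have h7 : orderOf (c * x * c⁻¹) = orderOf x := by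
          have := MulEquiv.orderOf_eq (MulAut.conj c) x
          rwa [MulAut.conj_apply] at this
        rw [hc, orderOf_inv, hyo, hxo] at h7
        exact absurd h7 (by norm_num)
      · rintro h6
        rw [h6] at h4
        exact hg (isConj_one_right.1 h4)
    · rw [hFt] at h4
      apply prd_of_midB_lt hp5 hG ho
      have h6 := Finset.sum_mul_sq_le_sq_mul_sq (Finset.univ.filter (IsMidB 5 x y))
        (fun χ : IrrCharacter ↥(chevG2.group F) => ‖(χ : ↥(chevG2.group F) → ℂ) x‖ *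
          ‖(χ : ↥(chevG2.group F) → ℂ) y‖ / ‖(χ : ↥(chevG2.group F) → ℂ) 1‖)
        (fun χ : IrrCharacter ↥(chevG2.group F) => ‖(χ : ↥(chevG2.group F) → ℂ) g‖)
      have h7 : (Nat.card (centralizer ({g} : Set ↥(chevG2.group F))) : ℝ) ≤ 15000 := by exact_mod_cast h4
      have h8 := sum_midB_sq_le (p := 5) (x := x) (y := y) (g := g)
      have h9 : (∑ χ ∈ Finset.univ.filter (IsMidB 5 x y), ‖(χ : ↥(chevG2.group F) → ℂ) x‖ *
          ‖(χ : ↥(chevG2.group F) → ℂ) y‖ / ‖(χ : ↥(chevG2.group F) → ℂ) 1‖ *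
          ‖(χ : ↥(chevG2.group F) → ℂ) g‖) ^ 2 < 1 ^ 2 := by
        have h10 : (∑ χ ∈ Finset.univ.filter (IsMidB 5 x y), ‖(χ : ↥(chevG2.group F) → ℂ) x‖ *
          ‖(χ : ↥(chevG2.group F) → ℂ) y‖ / ‖(χ : ↥(chevG2.group F) → ℂ) 1‖ *
          ‖(χ : ↥(chevG2.group F) → ℂ) g‖) ^ 2 ≤ ((20 - 5 * W) / 810000 + 25 * W / 562500) * 15000 :=
          h6.trans (mul_le_mul hmid (h8.trans (by linarith)) (Finset.sum_nonneg fun _ _ => by positivity)
            (by linarith))
        refine h10.trans_lt ?_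
        linarith
      have h11 := lt_of_pow_lt_pow_left₀ 2 zero_le_one h9
      refine lt_of_le_of_lt (le_of_eq (Finset.sum_congr rfl fun χ _ => ?_)) h11
      ring
  refine ⟨x, y, by rw [hxo]; exact hp31, by rw [hxo]; norm_num, by rw [hyo]; exact hp7, by rw [hyo]; norm_num,
    key, ?_⟩
  exact cube_of_gow hp5 hG h5x hx1 (by rw [hyo]; norm_num) hy1 key

end Cfsg.Agent.H983.TC.Five
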