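import Cfsg.Agent.H983.TC.Vals
import Cfsg.Agent.H4.TCG.Val
import Cfsg.Agent.H777.T6.Defs


/-!
# `Row3 G₂(q)`, `q ≥ 9` (S2464, S2452, S4173; helper983 with helper4, 221, 446, 447, 641, 727)
-/

set_option autoImplicit false

open Cfsg Subgroup


namespace Cfsg.Agent.H983.TC.Glue

open Cfsg.Agent.Characters Cfsg.Agent.H730.OZ Cfsg.Agent.H732.VZ Cfsg.Agent.H65.Ore Cfsg.Agent.H727.TC
open Cfsg.Agent.H641.TC6 Cfsg.Agent.H983.KG2 Cfsg.Agent.H946.Num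

theorem c3_ge {q : ℕ} (h9 : 9 ≤ q) : 37 ≤ c3 q := by
  have h1 := c3_mul q
  rcases Nat.lt_or_ge q 11 with h | h
  · interval_cases q <;> decide
  · have h2 : Nat.gcd 3 (N3 q) ≤ 3 := Nat.gcd_le_left _ (by norm_num)
    have h3 : 111 ≤ N3 q := by unfold N3; nlinarith
    have h4 : Nat.gcd 3 (N3 q) * c3 q ≤ 3 * c3 q := Nat.mul_le_mul_right _ h2
    omega

theorem c6_ge {q : ℕ} (h9 : 9 ≤ q) : 37 ≤ c6 q := by
  have h1 := c6_mul q
  rcases Nat.lt_or_ge q 11 with h | h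
  · interval_cases q <;> decide
  · have h2 : Nat.gcd 3 (N6 q) ≤ 3 := Nat.gcd_le_left _ (by norm_num)
    have h3 : 111 ≤ N6 q := by
      show 111 ≤ q ^ 2 - q + 1
      have h4 : 10 * q + q ≤ q ^ 2 := by nlinarith
      omega
    have h4 : Nat.gcd 3 (N6 q) * c6 q ≤ 3 * c6 q := Nat.mul_le_mul_right _ h2
    omega

theorem hk_num {a b : ℕ} (ha : 37 ≤ a) (hb : 37 ≤ b) : 36 * b + a ≤ a * b := by
  obtain ⟨c, rfl⟩ := Nat.exists_eq_add_of_le ha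
  nlinarith

variable {F : Type} [Field F] [Fintype F]

/-- **`Row3 G₂(q)`, `q ≥ 9`.** -/
theorem row3_g2_nine (h9 : 9 ≤ Fintype.card F) : H210.TC.Row3 ↥(Lie.chevG2.group F) := by
  obtain ⟨q, hq⟩ : ∃ q, Fintype.card F = q := ⟨_, rfl⟩
  rw [hq] at h9
  have hfin : Fintype ↥(Lie.chevG2.group F) := Fintype.ofFinite _
  obtain ⟨A3, T3, D3, k3, hk3, hr3⟩ := H447.TC.tor3_real (F := F) hq (by omega)
  obtain ⟨A6, T6, D6, k6, hk6, hr6⟩ := H447.TC.tor6_real (F := F) hq (by omega)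
  have g3 := c3_ge h9
  have g6 := c6_ge h9
  have cop3 : (c3 q).Coprime 3 := (c3_six q).coprime_dvd_right (by norm_num)
  have cop6 : (c6 q).Coprime 3 := (c6_six q).coprime_dvd_right (by norm_num)
  have hne : N3 q ≠ N6 q := by
    intro h
    have h1 : N3 q = q ^ 2 + q + 1 := rfl
    have h2 : N6 q = q ^ 2 - q + 1 := rfl
    rw [h1, h2] at h
    have : q ≤ q ^ 2 := by nlinarith
    omega
  have cube : ∀ {A T : Subgroup ↥(Lie.chevG2.group F)} {m n : ℕ}, TorD ↥(Lie.chevG2.group F) m n 6 A T →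
      n.Coprime 3 → ∀ a ∈ A, a ≠ 1 → a ∈ H4.TCG.supp T 3 := by
    intro A T m n D hn a ha ha1
    rw [H4.TCG.mem_supp]
    refine ⟨D.le ha, fun h => ha1 ?_⟩
    have h1 : orderOf a ∣ 3 := orderOf_dvd_of_pow_eq_one h
    have h2 : orderOf a ∣ n := by
      rw [← D.cardA]
      exact Subgroup.orderOf_dvd_natCard A ha
    exact orderOf_eq_one_iff.1 (Nat.eq_one_of_dvd_coprimes hn h2 h1)
  refine row3_of_vals hq h9 D3 D6 fun x hx y hy hx1 hy1 χ _ h1 h2 => ?_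
  obtain ⟨b6, hb6, hv6⟩ := H4.TCG.value_two D6 (N6_dvd q) cop6 g6 D3 (N3_dvd q) cop3 g3 hne.symm (hk_num g6 g3)
    (fun _ => ⟨k6, hk6, hr6⟩) χ.2 (cube D3 cop3 y hy hy1) h2
  obtain ⟨b3, hb3, hv3⟩ := H4.TCG.value_two D3 (N3_dvd q) cop3 g3 D6 (N6_dvd q) cop6 g6 hne (hk_num g3 g6)
    (fun _ => ⟨k3, hk3, hr3⟩) χ.2 (cube D6 cop6 x hx hx1) h1
  exact ⟨b6, b3, hv6, hv3, hb6, hb3⟩

/-- **S2464, row `G₂(q)`, `q ≥ 9`.** -/
theorem t6_g2_nine (h9 : 9 ≤ Fintype.card F) : H777.T6.T6 ↥(Lie.chevG2.group F) :=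
  H777.T6.T6.of_row3 (row3_g2_nine h9)

end Cfsg.Agent.H983.TC.Glue
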