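import Cfsg.Agent.H983.TC.Row
import Cfsg.Agent.H221.TC.Cor

/-!
# The middle characters: from the values on the tori to `MidData` (S2464, `G₂(q)`; helper983)
-/

set_option autoImplicit false

open Cfsg Subgroup

namespace Cfsg.Agent.H983.TC.Glue

open Cfsg.Agent.Characters Cfsg.Agent.H730.OZ Cfsg.Agent.H732.VZ Cfsg.Agent.H65.Ore Cfsg.Agent.H727.TC
open scoped ComplexConjugate

universe u

variable {G : Type u} [Group G] [Finite G]

/-- the value of the Steinberg character -/
theorem st_value {p : ℕ} {st : IrrCharacter G} (h : ∀ g : G, ¬ p ∣ orderOf g →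
        (st : G → ℂ) g = ((p ^ (Nat.card ↥(Subgroup.centralizer ({g} : Set G))).factorization p : ℕ) : ℂ) ∨
        (st : G → ℂ) g = -((p ^ (Nat.card ↥(Subgroup.centralizer ({g} : Set G))).factorization p : ℕ) : ℂ))
    {x : G} (hx : ¬ p ∣ Nat.card (centralizer ({x} : Set G))) : (st : G → ℂ) x = 1 ∨ (st : G → ℂ) x = -1 := by
  have h1 := h x (reg_of_cent hx)
  rw [Nat.factorization_eq_zero_of_not_dvd hx, pow_zero, Nat.cast_one] at h1
  exact h1

theorem midData_of {p : ℕ} (hp : p.Prime) (hG : IsLieTypeChar p G) (hpG : p ∣ Nat.card G) {T : Subgroup G}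
    (hab : ∀ a ∈ T, ∀ b ∈ T, a * b = b * a) (hc : ∀ a ∈ T, a ≠ 1 → centralizer ({a} : Set G) ≤ T)
    (hw : T.relIndex (normalizer (T : Set G)) = 6) (hk : 49 < Nat.card T) {x y : G} (hxT : x ∈ T) (hx1 : x ≠ 1)
    (hx : ¬ p ∣ Nat.card (centralizer ({x} : Set G))) (hy : ¬ p ∣ Nat.card (centralizer ({y} : Set G)))
    (hxy : ¬ IsConj x y) {n n' : ℕ}
    (hA : ∀ χ : IrrCharacter G, χ ≠ one1 G → (χ : G → ℂ) x ≠ 0 → (χ : G → ℂ) y ≠ 0 → ∃ c c' : ℤ,
      (∀ t ∈ T, t ≠ 1 → (χ : G → ℂ) t = c) ∧ (χ : G → ℂ) y = c' ∧ |c'| ≤ 2 ∧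
      (n : ℤ) ∣ charDegree (χ : G → ℂ) - c ∧ (n' : ℤ) ∣ charDegree (χ : G → ℂ) - c') : MidData x y n n' := by
  classical
  have : Finite (IrrCharacter G) := S0909.finite_irr
  have := Fintype.ofFinite (IrrCharacter G)
  let S : Finset (IrrCharacter G) := Finset.univ.filter fun χ => (χ : G → ℂ) x ≠ 0 ∧ (χ : G → ℂ) y ≠ 0
  have hmem : ∀ χ, χ ∈ S ↔ (χ : G → ℂ) x ≠ 0 ∧ (χ : G → ℂ) y ≠ 0 := fun χ => by simp [S]
  have hone : one1 G ∈ S := by
    rw [hmem]
    simp [one1_apply]
  have hS : ∀ χ ∈ S, ∃ c : ℤ, ∀ t ∈ T, t ≠ 1 → (χ : G → ℂ) t = c := by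
    intro χ hχ
    rw [hmem] at hχ
    by_cases h1 : χ = one1 G
    · exact ⟨1, fun t _ _ => by rw [h1, one1_apply]; norm_num⟩
    · obtain ⟨c, c', h2, -⟩ := hA χ h1 hχ.1 hχ.2
      exact ⟨c, h2⟩
  choose! d hd using hS
  have hk' : 6 * (6 + 2) + 1 < Nat.card T := by omega
  have hsum := Cfsg.Agent.H221.TC.sum_le hab hc hw hk' S d hd
  have hdx : ∀ χ ∈ S, (χ : G → ℂ) x = d χ := fun χ hχ => hd χ hχ x hxT hx1
  have hd0 : ∀ χ ∈ S, d χ ≠ 0 := by
    intro χ hχ h0
    have h1 := hdx χ hχ
    rw [h0, Int.cast_zero] at h1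
    exact ((hmem χ).1 hχ).1 h1
  have hd1 : d (one1 G) = 1 := by
    have h1 := hdx _ hone
    rw [one1_apply] at h1
    exact_mod_cast h1.symm
  have hcard : S.card ≤ 6 :=
    Cfsg.Agent.H221.TC.card_le hab hc hw hk' S fun χ hχ => ⟨d χ, hd0 χ hχ, hd χ hχ⟩
  constructor
  · have e : {χ : IrrCharacter G | χ ≠ one1 G ∧ (χ : G → ℂ) x ≠ 0 ∧ (χ : G → ℂ) y ≠ 0} = ↑(S.erase (one1 G)) := by
      ext χ
      simp only [hmem, Set.mem_ofPred_eq, Finset.mem_coe, Finset.mem_erase]
    rw [e, Set.ncard_coe_finset, Finset.card_erase_of_mem hone]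
    omega
  · intro χ hχ1 hχx hχy
    obtain ⟨c, c', h1, h2, h3, h4, h5⟩ := hA χ hχ1 hχx hχy
    have hχS : χ ∈ S := (hmem χ).2 ⟨hχx, hχy⟩
    have hcx : (χ : G → ℂ) x = c := h1 x hxT hx1
    have hcd : d χ = c := by
      have h6 := hdx χ hχS
      rw [hcx] at h6
      exact_mod_cast h6.symm
    have hc0 : c ≠ 0 := hcd ▸ hd0 χ hχS
    have hc'0 : c' ≠ 0 := by
      rintro rfl
      exact hχy (by rw [h2, Int.cast_zero])
    have hc2 : |c| ≤ 2 := by
      have h6 : d (one1 G) ^ 2 + d χ ^ 2 ≤ ∑ ψ ∈ S, d ψ ^ 2 := by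
        rw [← Finset.sum_pair (f := fun ψ => d ψ ^ 2) (Ne.symm hχ1)]
        refine Finset.sum_le_sum_of_subset_of_nonneg ?_ fun _ _ _ => sq_nonneg _
        intro ψ hψ
        rw [Finset.mem_insert, Finset.mem_singleton] at hψ
        rcases hψ with rfl | rfl
        · exact hone
        · exact hχS
      rw [hd1, hcd] at h6
      push_cast at hsum
      have h7 : c ^ 2 ≤ 5 := by linarith
      rw [abs_le]
      constructor <;> nlinarith
    refine ⟨c, c', hcx, h2, ?_, h4, h5⟩
    have ha : |c| = 1 ∨ |c| = 2 := by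
      have : 0 < |c| := abs_pos.2 hc0
      omega
    have hb : |c'| = 1 ∨ |c'| = 2 := by
      have : 0 < |c'| := abs_pos.2 hc'0
      omega
    rw [abs_mul]
    rcases ha with ha | ha
    · rw [ha, one_mul]; exact hb
    · rcases hb with hb | hb
      · rw [ha, hb]; right; norm_num
      · exfalso
        -- the type `(2, 2)`
        obtain ⟨st, -, hval, hz, -⟩ := exists_st hp hG
        have hsx := st_value hval hx
        have hsy := st_value hval hy
        have hstS : st ∈ S := by
          rw [hmem]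
          constructor
          · rcases hsx with h | h <;> rw [h] <;> norm_num
          · rcases hsy with h | h <;> rw [h] <;> norm_num
        have hdst : d st = 1 ∨ d st = -1 := by
          have h6 := hdx st hstS
          rcases hsx with h | h
          · left; rw [h] at h6; exact_mod_cast h6.symm
          · right; rw [h] at h6; exact_mod_cast h6.symm
        have hne : st ≠ χ := by
          intro h
          rw [h, hcd] at hdst
          rcases hdst with h6 | h6 <;> rw [h6] at ha <;> norm_num at ha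
        have hstd : d st ^ 2 = 1 := by rcases hdst with h | h <;> rw [h] <;> norm_num
        have hcd2 : d χ ^ 2 = 4 := by
          rw [hcd, ← sq_abs, ha]; norm_num
        have hne1 : st ≠ one1 G := by
          intro h
          have : Fact p.Prime := ⟨hp⟩
          obtain ⟨g, hg⟩ := exists_prime_orderOf_dvd_card' p hpG
          have h6 := hz g (by rw [hg])
          rw [h, one1_apply] at h6
          exact one_ne_zero h6
        have hSeq : ∀ ψ ∈ S, ψ = one1 G ∨ ψ = st ∨ ψ = χ := by
          intro ψ hψ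
          by_contra hcon
          push Not at hcon
          obtain ⟨k1, k2, k3⟩ := hcon
          have h6 : ∑ θ ∈ ({one1 G, st, χ, ψ} : Finset (IrrCharacter G)), d θ ^ 2 ≤ ∑ θ ∈ S, d θ ^ 2 := by
            refine Finset.sum_le_sum_of_subset_of_nonneg ?_ fun _ _ _ => sq_nonneg _
            intro θ hθ
            simp only [Finset.mem_insert, Finset.mem_singleton] at hθ
            rcases hθ with rfl | rfl | rfl | rfl
            · exact hone
            · exact hstS
            · exact hχS
            · exact hψ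
          rw [Finset.sum_insert (by simp [Ne.symm hne1, Ne.symm hχ1, Ne.symm k1]),
            Finset.sum_insert (by simp [hne, Ne.symm k2]), Finset.sum_insert (by simp [Ne.symm k3]),
            Finset.sum_singleton, hd1, hstd, hcd2] at h6
          have h7 := hd0 ψ hψ
          have : 0 < d ψ ^ 2 := by positivity
          push_cast at hsum
          linarith
        -- column orthogonality
        have hcol := H686.CharKit.col_orth (G := G) x y
        rw [if_neg hxy] at hcol
        have hsub : ∑ θ : IrrCharacter G, (θ : G → ℂ) x * conj ((θ : G → ℂ) y) =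
            ∑ θ ∈ ({one1 G, st, χ} : Finset (IrrCharacter G)), (θ : G → ℂ) x * conj ((θ : G → ℂ) y) := by
          symm
          refine Finset.sum_subset (Finset.subset_univ _) fun θ _ hθ => ?_
          by_contra h6
          apply hθ
          have h7 : θ ∈ S := by
            rw [hmem]
            constructor
            · intro h8
              exact h6 (by rw [h8, zero_mul])
            · intro h8
              exact h6 (by rw [h8, map_zero, mul_zero])
          rcases hSeq θ h7 with h8 | h8 | h8 <;> rw [h8] <;> simp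
        rw [hsub, Finset.sum_insert (by simp [Ne.symm hne1, Ne.symm hχ1]), Finset.sum_insert (by simp [hne]),
          Finset.sum_singleton, hcx, h2] at hcol
        simp only [one1_apply, map_one, mul_one] at hcol
        have hcc : c * c' = 4 ∨ c * c' = -4 := by
          have h6 : |c * c'| = 4 := by rw [abs_mul, ha, hb]; norm_num
          rcases abs_choice (c * c') with h7 | h7 <;> omega
        have e2 : (c : ℂ) * conj (c' : ℂ) = ((c * c' : ℤ) : ℂ) := by
          have e3 : conj (c' : ℂ) = (c' : ℂ) := map_intCast _ c'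
          rw [e3]; push_cast; ring
        rw [e2] at hcol
        rcases hsx with h6 | h6 <;> rcases hsy with h7 | h7 <;> rw [h6, h7] at hcol <;>
          rcases hcc with h8 | h8 <;> rw [h8] at hcol <;> norm_num at hcol

end Cfsg.Agent.H983.TC.Glue
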