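import Mathlib

/-!
# Degrees of `G₂(q)` congruent to `±1, ±2` modulo the two cyclotomic tori (helper983, S2464, S2452)

`deg_g2` : `q = p ^ f ≥ 7`, `n₁ e₁ = q² + q + 1`, `n₂ e₂ = q² - q + 1`, `e_i ∣ 3`, `D ∣ q⁶ (q² - 1) (q⁶ - 1)`,
`D ≡ c_i (mod n_i)`, `c_i ∈ {±1, ±2}` not both `±2`: then `D = 1`, `D = q³` or `5 (c₁ c₂)² q⁸ ≤ D²`.
-/

set_option autoImplicit false
set_option linter.unusedSimpArgs false

namespace Cfsg.Agent.H983.TC.Num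

theorem dvd_mul_gcd {D m n : ℤ} (h : D ∣ m * n) : D ∣ m * (Int.gcd D n : ℤ) := by
  rw [Int.gcd_eq_gcd_ab D n, mul_add]
  refine dvd_add ⟨m * Int.gcdA D n, by ring⟩ ?_
  obtain ⟨t, ht⟩ := h
  exact ⟨t * Int.gcdB D n, by rw [← mul_assoc, ht]; ring⟩

/-- one factor -/
theorem step {D m n A : ℤ} (h : D ∣ m * n) (hA : n ∣ D - A) : D ∣ m * A := by
  refine (dvd_mul_gcd h).trans (mul_dvd_mul_left m ?_)
  have h1 := dvd_sub (Int.gcd_dvd_left (a := D) (b := n)) ((Int.gcd_dvd_right (a := D) (b := n)).trans hA)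
  rwa [sub_sub_cancel] at h1

theorem step_pow {D n A : ℤ} (hA : n ∣ D - A) (j : ℕ) : ∀ {m : ℤ}, D ∣ m * n ^ j → D ∣ m * A ^ j := by
  induction j with
  | zero => intro m h; simpa using h
  | succ j ih =>
    intro m h
    have h1 : D ∣ (m * n ^ j) * A := step (by rwa [mul_assoc, ← pow_succ]) hA
    have h2 : D ∣ (m * A) * n ^ j := by rwa [mul_right_comm] at h1
    have h3 := ih h2
    rwa [mul_assoc, ← pow_succ'] at h3

/-- the factor `q ^ j`, `q` a prime power -/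
theorem step0 {p f i j : ℕ} (hp : p.Prime) {q : ℤ} (hq : q = (p : ℤ) ^ f) {E m A : ℤ} (h : E ∣ m * q ^ j)
    (hA : q ^ i ∣ E - A) (hA0 : A ≠ 0) (hlt : |A| < q ^ i) : E ∣ m * A := by
  refine (dvd_mul_gcd h).trans (mul_dvd_mul_left m ?_)
  have h1 : Int.gcd E (q ^ j) ∣ p ^ (f * j) := by
    have h2 : ((Int.gcd E (q ^ j) : ℕ) : ℤ) ∣ q ^ j := Int.gcd_dvd_right _ _
    have h3 : q ^ j = ((p ^ (f * j) : ℕ) : ℤ) := by rw [hq, ← pow_mul]; push_cast; rfl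
    rw [h3] at h2 ⊢
    exact_mod_cast h2
  obtain ⟨l, -, hl⟩ := (Nat.dvd_prime_pow hp).1 h1
  have hE : ((p : ℤ) ^ l) ∣ E := by
    have h2 : ((Int.gcd E (q ^ j) : ℕ) : ℤ) ∣ E := Int.gcd_dvd_left _ _
    rw [hl] at h2
    exact_mod_cast h2
  rw [hl]
  push_cast
  rcases le_or_gt l (f * i) with hli | hli
  · have h2 : ((p : ℤ) ^ l) ∣ q ^ i := by
      rw [hq, ← pow_mul]
      exact pow_dvd_pow _ hli
    have h3 := dvd_sub hE (h2.trans hA)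
    rwa [sub_sub_cancel] at h3
  · exfalso
    have h2 : q ^ i ∣ E := by
      refine dvd_trans ?_ hE
      rw [hq, ← pow_mul]
      exact pow_dvd_pow _ hli.le
    have h3 := dvd_sub h2 hA
    rw [sub_sub_cancel] at h3
    have h4 := Int.le_of_dvd (abs_pos.2 hA0) ((dvd_abs _ _).2 h3)
    omega

/-- the constants -/
theorem small {p f j l : ℕ} (hp : p.Prime) {q : ℤ} (hq : q = (p : ℤ) ^ f) {M m a b c : ℤ}
    (hd : M ∣ m * q ^ 6 * (q - 1) ^ j * (q + 1) ^ l) (h0 : q ^ 1 ∣ M - a) (h1 : q - 1 ∣ M - b)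
    (h2 : q + 1 ∣ M - c) (ha : a ≠ 0) (haq : |a| < q ^ 1) (hne : m * b ^ j * c ^ l * a ≠ 0)
    (hlt : |m * b ^ j * c ^ l * a| < M) : False := by
  have h3 : M ∣ (m * q ^ 6 * (q - 1) ^ j) * c ^ l := step_pow h2 l hd
  have h4 : M ∣ (m * q ^ 6 * c ^ l) * (q - 1) ^ j := by
    rwa [mul_right_comm] at h3
  have h5 : M ∣ (m * q ^ 6 * c ^ l) * b ^ j := step_pow h1 j h4
  have h6 : M ∣ (m * b ^ j * c ^ l) * q ^ 6 := by
    have e : (m * b ^ j * c ^ l) * q ^ 6 = (m * q ^ 6 * c ^ l) * b ^ j := by ring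
    rwa [e]
  have h7 := step0 hp hq h6 h0 ha haq
  have h8 := Int.le_of_dvd (abs_pos.2 hne) ((dvd_abs _ _).2 h7)
  omega

/-- the main case -/
theorem generic {p f : ℕ} (hp : p.Prime) {q : ℤ} (hq : q = (p : ℤ) ^ f) (h210 : 210 ≤ q) {c1 c2 k E : ℤ}
    (hs : |c1 + c2| ≤ 3) (hm : |c1 - c2| ≤ 3) (h1 : |c1| ≤ 2) (h2 : |c2| ≤ 2) (hk0 : 1 ≤ k) (hk : k ≤ 27)
    (hE : E = 3 * (c1 + c2) + 3 * (c1 - c2) * q ^ 3 + k * (q ^ 4 + q ^ 2 + 1))
    (hd : E ∣ 18 * q ^ 6 * (q - 1) ^ 2 * (q + 1) ^ 2) (hA0 : 3 * (c1 + c2) + k ≠ 0) (hA1 : 6 * c1 + 3 * k ≠ 0)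
    (hA2 : 6 * c2 + 3 * k ≠ 0) : False := by
  have e0 : q ^ 2 ∣ E - (3 * (c1 + c2) + k) := ⟨3 * (c1 - c2) * q + k * (q ^ 2 + 1), by rw [hE]; ring⟩
  have e1 : q - 1 ∣ E - (6 * c1 + 3 * k) :=
    ⟨3 * (c1 - c2) * (q ^ 2 + q + 1) + k * ((q + 1) * (q ^ 2 + 2)), by rw [hE]; ring⟩
  have e2 : q + 1 ∣ E - (6 * c2 + 3 * k) :=
    ⟨3 * (c1 - c2) * (q ^ 2 - q + 1) + k * ((q - 1) * (q ^ 2 + 2)), by rw [hE]; ring⟩
  rw [abs_le] at hs hm h1 h2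
  have h3 : E ∣ (18 * q ^ 6 * (q - 1) ^ 2) * (6 * c2 + 3 * k) ^ 2 := step_pow e2 2 hd
  have h4 : E ∣ (18 * q ^ 6 * (6 * c2 + 3 * k) ^ 2) * (q - 1) ^ 2 := by
    rwa [mul_right_comm] at h3
  have h5 := step_pow e1 2 h4
  have h6 : E ∣ (18 * (6 * c1 + 3 * k) ^ 2 * (6 * c2 + 3 * k) ^ 2) * q ^ 6 := by
    have e : (18 * (6 * c1 + 3 * k) ^ 2 * (6 * c2 + 3 * k) ^ 2) * q ^ 6 =
      (18 * q ^ 6 * (6 * c2 + 3 * k) ^ 2) * (6 * c1 + 3 * k) ^ 2 := by ring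
    rwa [e]
  have hq2 : (210 : ℤ) ^ 2 ≤ q ^ 2 := pow_le_pow_left₀ (by norm_num) h210 2
  have h7 := step0 hp hq h6 e0 hA0 (by
    rw [abs_lt]
    constructor <;> nlinarith)
  have hne : 18 * (6 * c1 + 3 * k) ^ 2 * (6 * c2 + 3 * k) ^ 2 * (3 * (c1 + c2) + k) ≠ 0 := by positivity
  have h8 := Int.le_of_dvd (abs_pos.2 hne) ((dvd_abs _ _).2 h7)
  rw [abs_mul, abs_of_nonneg (by positivity)] at h8
  have b0 : |3 * (c1 + c2) + k| ≤ k + 9 := by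
    rw [abs_le]
    constructor <;> linarith
  have b1 : (6 * c1 + 3 * k) ^ 2 ≤ (3 * k + 12) ^ 2 := by
    rw [sq_le_sq, abs_of_nonneg (by linarith : (0 : ℤ) ≤ 3 * k + 12), abs_le]
    constructor <;> linarith
  have b2 : (6 * c2 + 3 * k) ^ 2 ≤ (3 * k + 12) ^ 2 := by
    rw [sq_le_sq, abs_of_nonneg (by linarith : (0 : ℤ) ≤ 3 * k + 12), abs_le]
    constructor <;> linarith
  have h9 : E ≤ 18 * (3 * k + 12) ^ 2 * (3 * k + 12) ^ 2 * (k + 9) := by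
    refine h8.trans ?_
    gcongr
  have h10 : 18 * (3 * k + 12) ^ 2 * (3 * k + 12) ^ 2 * (k + 9) ≤ 1795324824 * k := by
    interval_cases k <;> norm_num
  have h11 : k * (q ^ 4 - 9 * q ^ 3) - 9 * k ≤ E := by
    rw [hE]
    have hq3 : 0 < q ^ 3 := by positivity
    have h12 : -3 * q ^ 3 ≤ (c1 - c2) * q ^ 3 := by nlinarith
    have h13 : 9 * q ^ 3 ≤ 9 * k * q ^ 3 := by nlinarith
    have h14 : 0 ≤ k * q ^ 2 := by positivity
    nlinarith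
  have h15 : k * (q ^ 4 - 9 * q ^ 3 - 9) ≤ k * 1795324824 := by linarith
  have h16 := le_of_mul_le_mul_left h15 (by linarith : (0 : ℤ) < k)
  have h17 : (210 : ℤ) ^ 3 ≤ q ^ 3 := pow_le_pow_left₀ (by norm_num) h210 3
  have h18 : 201 * (210 : ℤ) ^ 3 ≤ q ^ 4 - 9 * q ^ 3 := by nlinarith
  norm_num at h18
  linarith

/-! ### The zero cases -/

section zero

variable {p f : ℕ} (hp : p.Prime) {q : ℤ} (hq : q = (p : ℤ) ^ f) (h210 : 210 ≤ q)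
include hp hq h210

/-- `E = w (q - 1) ^ s (q + 1) ^ t q ^ v M` -/
theorem zcase {E M R m a b c : ℤ} {j l : ℕ} (hd : E ∣ 18 * q ^ 6 * (q - 1) ^ 2 * (q + 1) ^ 2) (hR : R ≠ 0)
    (hE : E = R * M) (hH : 18 * q ^ 6 * (q - 1) ^ 2 * (q + 1) ^ 2 ∣ R * (m * q ^ 6 * (q - 1) ^ j * (q + 1) ^ l))
    (h0 : q ^ 1 ∣ M - a) (h1 : q - 1 ∣ M - b) (h2 : q + 1 ∣ M - c) (ha : a ≠ 0) (haq : |a| < 210)
    (hne : m * b ^ j * c ^ l * a ≠ 0) (hlt : |m * b ^ j * c ^ l * a| < M) : False := by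
  have h3 : M ∣ m * q ^ 6 * (q - 1) ^ j * (q + 1) ^ l := by
    have h4 := hd.trans hH
    rw [hE] at h4
    exact Int.dvd_of_mul_dvd_mul_left hR h4
  exact small hp hq h3 h0 h1 h2 ha (by rw [pow_one]; omega) hne hlt

end zero

theorem large {p f : ℕ} (hp : p.Prime) {q : ℤ} (hq : q = (p : ℤ) ^ f) (h210 : 210 ≤ q) {c1 c2 k E : ℤ}
    (hc : (c1, c2) ∈ [((1 : ℤ), (1 : ℤ)), (1, -1), (-1, 1), (-1, -1), (1, 2), (1, -2), (-1, 2), (-1, -2), (2, 1), (2, -1),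
      (-2, 1), (-2, -1)]) (hk0 : 1 ≤ k) (hk : k ≤ 27)
    (hE : E = 3 * (c1 + c2) + 3 * (c1 - c2) * q ^ 3 + k * (q ^ 4 + q ^ 2 + 1))
    (hd : E ∣ 18 * q ^ 6 * (q - 1) ^ 2 * (q + 1) ^ 2) : False := by
  have hq2 : 210 * q ≤ q ^ 2 := by nlinarith
  have hq3 : 210 * q ^ 2 ≤ q ^ 3 := by nlinarith
  have hq0 : q ≠ 0 := by omega
  have hq1 : q - 1 ≠ 0 := by omega
  have hq1' : q + 1 ≠ 0 := by omega
  simp only [List.mem_cons, Prod.mk.injEq, List.not_mem_nil, or_false] at hc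
  rcases hc with ⟨rfl, rfl⟩ | ⟨rfl, rfl⟩ | ⟨rfl, rfl⟩ | ⟨rfl, rfl⟩ | ⟨rfl, rfl⟩ | ⟨rfl, rfl⟩ | ⟨rfl, rfl⟩ | ⟨rfl, rfl⟩ | ⟨rfl, rfl⟩ | ⟨rfl, rfl⟩ | ⟨rfl, rfl⟩ | ⟨rfl, rfl⟩
  · -- c1 = 1, c2 = 1
    exact generic hp hq h210 (by norm_num) (by norm_num) (by norm_num) (by norm_num) hk0 hk hE hd (by omega) (by omega) (by omega)
  · -- c1 = 1, c2 = -1
    by_cases hk2 : k = 2
    · subst hk2
      exact zcase (M := (1) * q ^ 3 + (2) * q ^ 2 + (-1) * q + (1)) (R := 2 * (q + 1)) (m := 9) (a := 1) (b := 3) (c := 3) (j := 2) (l := 1) hp hq h210 hd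
        (by simp [hq0, hq1, hq1']) (by rw [hE]; ring) ⟨1, by ring⟩
        ⟨(1) * q ^ 2 + (2) * q + (-1), by ring⟩ ⟨(1) * q ^ 2 + (3) * q + (2), by ring⟩
        ⟨(1) * q ^ 2 + (1) * q + (-2), by ring⟩ (by norm_num) (by norm_num) (by norm_num)
        (by norm_num; linarith)
    exact generic hp hq h210 (by norm_num) (by norm_num) (by norm_num) (by norm_num) hk0 hk hE hd (by omega) (by omega) (by omega)
  · -- c1 = -1, c2 = 1
    by_cases hk2 : k = 2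
    · subst hk2
      exact zcase (M := (1) * q ^ 3 + (-2) * q ^ 2 + (-1) * q + (-1)) (R := 2 * (q - 1)) (m := 9) (a := -1) (b := -3) (c := -3) (j := 1) (l := 2) hp hq h210 hd
        (by simp [hq0, hq1, hq1']) (by rw [hE]; ring) ⟨1, by ring⟩
        ⟨(1) * q ^ 2 + (-2) * q + (-1), by ring⟩ ⟨(1) * q ^ 2 + (-1) * q + (-2), by ring⟩
        ⟨(1) * q ^ 2 + (-3) * q + (2), by ring⟩ (by norm_num) (by norm_num) (by norm_num)
        (by norm_num; linarith)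
    exact generic hp hq h210 (by norm_num) (by norm_num) (by norm_num) (by norm_num) hk0 hk hE hd (by omega) (by omega) (by omega)
  · -- c1 = -1, c2 = -1
    by_cases hk6 : k = 6
    · subst hk6
      exact zcase (M := (1) * q ^ 2 + (1)) (R := q ^ 2 * 6) (m := 3) (a := 1) (b := 2) (c := 2) (j := 2) (l := 2) hp hq h210 hd
        (by simp [hq0, hq1, hq1']) (by rw [hE]; ring) ⟨q ^ 2, by ring⟩
        ⟨(1) * q, by ring⟩ ⟨(1) * q + (1), by ring⟩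
        ⟨(1) * q + (-1), by ring⟩ (by norm_num) (by norm_num) (by norm_num)
        (by norm_num; linarith)
    by_cases hk2 : k = 2
    · subst hk2
      exact zcase (M := (1) * q ^ 2 + (2)) (R := 2 * ((q - 1) * (q + 1))) (m := 9) (a := 2) (b := 3) (c := 3) (j := 1) (l := 1) hp hq h210 hd
        (by simp [hq0, hq1, hq1']) (by rw [hE]; ring) ⟨1, by ring⟩
        ⟨(1) * q, by ring⟩ ⟨(1) * q + (1), by ring⟩
        ⟨(1) * q + (-1), by ring⟩ (by norm_num) (by norm_num) (by norm_num)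
        (by norm_num; linarith)
    exact generic hp hq h210 (by norm_num) (by norm_num) (by norm_num) (by norm_num) hk0 hk hE hd (by omega) (by omega) (by omega)
  · -- c1 = 1, c2 = 2
    exact generic hp hq h210 (by norm_num) (by norm_num) (by norm_num) (by norm_num) hk0 hk hE hd (by omega) (by omega) (by omega)
  · -- c1 = 1, c2 = -2
    by_cases hk3 : k = 3
    · subst hk3
      exact zcase (M := (1) * q ^ 2 + (3) * q + (1)) (R := q ^ 2 * 3) (m := 6) (a := 1) (b := 5) (c := -1) (j := 2) (l := 2) hp hq h210 hd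
        (by simp [hq0, hq1, hq1']) (by rw [hE]; ring) ⟨q ^ 2, by ring⟩
        ⟨(1) * q + (3), by ring⟩ ⟨(1) * q + (4), by ring⟩
        ⟨(1) * q + (2), by ring⟩ (by norm_num) (by norm_num) (by norm_num)
        (by norm_num; linarith)
    by_cases hk4 : k = 4
    · subst hk4
      exact zcase (M := (4) * q ^ 3 + (5) * q ^ 2 + (-1) * q + (1)) (R := 1 * (q + 1)) (m := 18) (a := 1) (b := 9) (c := 3) (j := 2) (l := 1) hp hq h210 hd
        (by simp [hq0, hq1, hq1']) (by rw [hE]; ring) ⟨1, by ring⟩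
        ⟨(4) * q ^ 2 + (5) * q + (-1), by ring⟩ ⟨(4) * q ^ 2 + (9) * q + (8), by ring⟩
        ⟨(4) * q ^ 2 + (1) * q + (-2), by ring⟩ (by norm_num) (by norm_num) (by norm_num)
        (by norm_num; linarith)
    exact generic hp hq h210 (by norm_num) (by norm_num) (by norm_num) (by norm_num) hk0 hk hE hd (by omega) (by omega) (by omega)
  · -- c1 = -1, c2 = 2
    by_cases hk2 : k = 2
    · subst hk2
      exact zcase (M := (2) * q ^ 3 + (-7) * q ^ 2 + (-5) * q + (-5)) (R := 1 * (q - 1)) (m := 18) (a := -5) (b := -15) (c := -9) (j := 1) (l := 2) hp hq h210 hd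
        (by simp [hq0, hq1, hq1']) (by rw [hE]; ring) ⟨1, by ring⟩
        ⟨(2) * q ^ 2 + (-7) * q + (-5), by ring⟩ ⟨(2) * q ^ 2 + (-5) * q + (-10), by ring⟩
        ⟨(2) * q ^ 2 + (-9) * q + (4), by ring⟩ (by norm_num) (by norm_num) (by norm_num)
        (by norm_num; linarith)
    exact generic hp hq h210 (by norm_num) (by norm_num) (by norm_num) (by norm_num) hk0 hk hE hd (by omega) (by omega) (by omega)
  · -- c1 = -1, c2 = -2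
    by_cases hk9 : k = 9
    · subst hk9
      exact zcase (M := (3) * q ^ 2 + (1) * q + (3)) (R := q ^ 2 * 3) (m := 6) (a := 3) (b := 7) (c := 5) (j := 2) (l := 2) hp hq h210 hd
        (by simp [hq0, hq1, hq1']) (by rw [hE]; ring) ⟨q ^ 2, by ring⟩
        ⟨(3) * q + (1), by ring⟩ ⟨(3) * q + (4), by ring⟩
        ⟨(3) * q + (-2), by ring⟩ (by norm_num) (by norm_num) (by norm_num)
        (by norm_num; linarith)
    by_cases hk2 : k = 2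
    · subst hk2
      exact zcase (M := (2) * q ^ 3 + (5) * q ^ 2 + (7) * q + (7)) (R := 1 * (q - 1)) (m := 18) (a := 7) (b := 21) (c := 3) (j := 1) (l := 2) hp hq h210 hd
        (by simp [hq0, hq1, hq1']) (by rw [hE]; ring) ⟨1, by ring⟩
        ⟨(2) * q ^ 2 + (5) * q + (7), by ring⟩ ⟨(2) * q ^ 2 + (7) * q + (14), by ring⟩
        ⟨(2) * q ^ 2 + (3) * q + (4), by ring⟩ (by norm_num) (by norm_num) (by norm_num)
        (by norm_num; linarith)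
    by_cases hk4 : k = 4
    · subst hk4
      exact zcase (M := (4) * q ^ 3 + (-1) * q ^ 2 + (5) * q + (-5)) (R := 1 * (q + 1)) (m := 18) (a := -5) (b := 3) (c := -15) (j := 2) (l := 1) hp hq h210 hd
        (by simp [hq0, hq1, hq1']) (by rw [hE]; ring) ⟨1, by ring⟩
        ⟨(4) * q ^ 2 + (-1) * q + (5), by ring⟩ ⟨(4) * q ^ 2 + (3) * q + (8), by ring⟩
        ⟨(4) * q ^ 2 + (-5) * q + (10), by ring⟩ (by norm_num) (by norm_num) (by norm_num)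
        (by norm_num; linarith)
    exact generic hp hq h210 (by norm_num) (by norm_num) (by norm_num) (by norm_num) hk0 hk hE hd (by omega) (by omega) (by omega)
  · -- c1 = 2, c2 = 1
    exact generic hp hq h210 (by norm_num) (by norm_num) (by norm_num) (by norm_num) hk0 hk hE hd (by omega) (by omega) (by omega)
  · -- c1 = 2, c2 = -1
    by_cases hk2 : k = 2
    · subst hk2
      exact zcase (M := (2) * q ^ 3 + (7) * q ^ 2 + (-5) * q + (5)) (R := 1 * (q + 1)) (m := 18) (a := 5) (b := 9) (c := 15) (j := 2) (l := 1) hp hq h210 hd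
        (by simp [hq0, hq1, hq1']) (by rw [hE]; ring) ⟨1, by ring⟩
        ⟨(2) * q ^ 2 + (7) * q + (-5), by ring⟩ ⟨(2) * q ^ 2 + (9) * q + (4), by ring⟩
        ⟨(2) * q ^ 2 + (5) * q + (-10), by ring⟩ (by norm_num) (by norm_num) (by norm_num)
        (by norm_num; linarith)
    exact generic hp hq h210 (by norm_num) (by norm_num) (by norm_num) (by norm_num) hk0 hk hE hd (by omega) (by omega) (by omega)
  · -- c1 = -2, c2 = 1
    by_cases hk3 : k = 3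
    · subst hk3
      exact zcase (M := (1) * q ^ 2 + (-3) * q + (1)) (R := q ^ 2 * 3) (m := 6) (a := 1) (b := -1) (c := 5) (j := 2) (l := 2) hp hq h210 hd
        (by simp [hq0, hq1, hq1']) (by rw [hE]; ring) ⟨q ^ 2, by ring⟩
        ⟨(1) * q + (-3), by ring⟩ ⟨(1) * q + (-2), by ring⟩
        ⟨(1) * q + (-4), by ring⟩ (by norm_num) (by norm_num) (by norm_num)
        (by norm_num; linarith)
    by_cases hk4 : k = 4
    · subst hk4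
      exact zcase (M := (4) * q ^ 3 + (-5) * q ^ 2 + (-1) * q + (-1)) (R := 1 * (q - 1)) (m := 18) (a := -1) (b := -3) (c := -9) (j := 1) (l := 2) hp hq h210 hd
        (by simp [hq0, hq1, hq1']) (by rw [hE]; ring) ⟨1, by ring⟩
        ⟨(4) * q ^ 2 + (-5) * q + (-1), by ring⟩ ⟨(4) * q ^ 2 + (-1) * q + (-2), by ring⟩
        ⟨(4) * q ^ 2 + (-9) * q + (8), by ring⟩ (by norm_num) (by norm_num) (by norm_num)
        (by norm_num; linarith)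
    exact generic hp hq h210 (by norm_num) (by norm_num) (by norm_num) (by norm_num) hk0 hk hE hd (by omega) (by omega) (by omega)
  · -- c1 = -2, c2 = -1
    by_cases hk9 : k = 9
    · subst hk9
      exact zcase (M := (3) * q ^ 2 + (-1) * q + (3)) (R := q ^ 2 * 3) (m := 6) (a := 3) (b := 5) (c := 7) (j := 2) (l := 2) hp hq h210 hd
        (by simp [hq0, hq1, hq1']) (by rw [hE]; ring) ⟨q ^ 2, by ring⟩
        ⟨(3) * q + (-1), by ring⟩ ⟨(3) * q + (2), by ring⟩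
        ⟨(3) * q + (-4), by ring⟩ (by norm_num) (by norm_num) (by norm_num)
        (by norm_num; linarith)
    by_cases hk4 : k = 4
    · subst hk4
      exact zcase (M := (4) * q ^ 3 + (1) * q ^ 2 + (5) * q + (5)) (R := 1 * (q - 1)) (m := 18) (a := 5) (b := 15) (c := -3) (j := 1) (l := 2) hp hq h210 hd
        (by simp [hq0, hq1, hq1']) (by rw [hE]; ring) ⟨1, by ring⟩
        ⟨(4) * q ^ 2 + (1) * q + (5), by ring⟩ ⟨(4) * q ^ 2 + (5) * q + (10), by ring⟩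
        ⟨(4) * q ^ 2 + (-3) * q + (8), by ring⟩ (by norm_num) (by norm_num) (by norm_num)
        (by norm_num; linarith)
    by_cases hk2 : k = 2
    · subst hk2
      exact zcase (M := (2) * q ^ 3 + (-5) * q ^ 2 + (7) * q + (-7)) (R := 1 * (q + 1)) (m := 18) (a := -7) (b := -3) (c := -21) (j := 2) (l := 1) hp hq h210 hd
        (by simp [hq0, hq1, hq1']) (by rw [hE]; ring) ⟨1, by ring⟩
        ⟨(2) * q ^ 2 + (-5) * q + (7), by ring⟩ ⟨(2) * q ^ 2 + (-3) * q + (4), by ring⟩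
        ⟨(2) * q ^ 2 + (-7) * q + (14), by ring⟩ (by norm_num) (by norm_num) (by norm_num)
        (by norm_num; linarith)
    exact generic hp hq h210 (by norm_num) (by norm_num) (by norm_num) (by norm_num) hk0 hk hE hd (by omega) (by omega) (by omega)

theorem kzero {p f : ℕ} (hp : p.Prime) {q : ℤ} (hq : q = (p : ℤ) ^ f) (h210 : 210 ≤ q) {c1 c2 E : ℤ}
    (hc : (c1, c2) ∈ [((1 : ℤ), (1 : ℤ)), (1, -1), (-1, 1), (-1, -1), (1, 2), (1, -2), (-1, 2), (-1, -2), (2, 1), (2, -1),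
      (-2, 1), (-2, -1)])
    (hE : E = 3 * (c1 + c2) + 3 * (c1 - c2) * q ^ 3) (hE0 : 0 < E)
    (hd : E ∣ 18 * q ^ 6 * (q - 1) ^ 2 * (q + 1) ^ 2) : E = 6 ∨ E = 6 * q ^ 3 := by
  have hq2 : 210 * q ≤ q ^ 2 := by nlinarith
  have hq3 : 210 * q ^ 2 ≤ q ^ 3 := by nlinarith
  simp only [List.mem_cons, Prod.mk.injEq, List.not_mem_nil, or_false] at hc
  rcases hc with ⟨rfl, rfl⟩ | ⟨rfl, rfl⟩ | ⟨rfl, rfl⟩ | ⟨rfl, rfl⟩ | ⟨rfl, rfl⟩ | ⟨rfl, rfl⟩ | ⟨rfl, rfl⟩ | ⟨rfl, rfl⟩ | ⟨rfl, rfl⟩ | ⟨rfl, rfl⟩ | ⟨rfl, rfl⟩ | ⟨rfl, rfl⟩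
  · left; rw [hE]; ring
  · right; rw [hE]; ring
  · exfalso; linarith
  · exfalso; linarith
  · exfalso; linarith
  · exfalso
    exact small hp hq hd (a := -3) (b := 6) (c := -12) ⟨9 * q ^ 2, by rw [hE]; ring⟩
      ⟨9 * (q ^ 2 + q + 1), by rw [hE]; ring⟩ ⟨9 * (q ^ 2 - q + 1), by rw [hE]; ring⟩ (by norm_num)
      (by norm_num; linarith) (by norm_num) (by norm_num; linarith)
  · exfalso; linarith
  · exfalso
    exact small hp hq hd (a := -9) (b := -6) (c := -12) ⟨3 * q ^ 2, by rw [hE]; ring⟩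
      ⟨3 * (q ^ 2 + q + 1), by rw [hE]; ring⟩ ⟨3 * (q ^ 2 - q + 1), by rw [hE]; ring⟩ (by norm_num)
      (by norm_num; linarith) (by norm_num) (by norm_num; linarith)
  · exfalso
    exact small hp hq hd (a := 9) (b := 12) (c := 6) ⟨3 * q ^ 2, by rw [hE]; ring⟩
      ⟨3 * (q ^ 2 + q + 1), by rw [hE]; ring⟩ ⟨3 * (q ^ 2 - q + 1), by rw [hE]; ring⟩ (by norm_num)
      (by norm_num; linarith) (by norm_num) (by norm_num; linarith)
  · exfalso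
    exact small hp hq hd (a := 3) (b := 12) (c := -6) ⟨9 * q ^ 2, by rw [hE]; ring⟩
      ⟨9 * (q ^ 2 + q + 1), by rw [hE]; ring⟩ ⟨9 * (q ^ 2 - q + 1), by rw [hE]; ring⟩ (by norm_num)
      (by norm_num; linarith) (by norm_num) (by norm_num; linarith)
  · exfalso; linarith
  · exfalso; linarith

/-! ### The finite check -/

/-- `c₁, c₂` as `(3 (c₁ + c₂) + 9, 3 (c₁ - c₂) + 9, (c₁ c₂)²)` -/
def L : List (ℕ × ℕ × ℕ) :=
  [(15, 9, 1), (9, 15, 1), (9, 3, 1), (3, 9, 1), (18, 6, 4), (12, 0, 4), (6, 18, 4), (0, 12, 4), (18, 12, 4), (12, 18, 4),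
    (6, 0, 4), (0, 6, 4)]

def ev (q K : ℕ) (c : ℕ × ℕ × ℕ) : ℕ :=
  (K * (q ^ 4 + q ^ 2 + 1) + c.2.1 * q ^ 3 + c.1) - (9 * q ^ 3 + 9 + (q ^ 4 + q ^ 2 + 1))

def chk (q K : ℕ) (c : ℕ × ℕ × ℕ) : Bool :=
  Nat.ble (180 * c.2.2 * q ^ 8) (ev q K c ^ 2) || !(Nat.beq ((18 * q ^ 6 * (q ^ 2 - 1) ^ 2) % ev q K c) 0) ||
    Nat.beq (ev q K c) 6 || Nat.beq (ev q K c) (6 * q ^ 3) || Nat.beq (ev q K c) 0

theorem fin (q : ℕ) (h : q < 210) (h7 : 7 ≤ q) (h10 : q ≠ 10) : ∀ K < 30, ∀ c ∈ L, chk q K c = true := by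
  have key : ∀ q < 210, 7 ≤ q → q ≠ 10 → ∀ K < 30, ∀ c ∈ L, chk q K c = true := by decide +kernel
  exact key q h h7 h10

theorem exists_L {c1 c2 : ℤ}
    (hc : (c1, c2) ∈ [((1 : ℤ), (1 : ℤ)), (1, -1), (-1, 1), (-1, -1), (1, 2), (1, -2), (-1, 2), (-1, -2), (2, 1), (2, -1),
      (-2, 1), (-2, -1)]) : ∃ c ∈ L, (c.1 : ℤ) = 3 * (c1 + c2) + 9 ∧ (c.2.1 : ℤ) = 3 * (c1 - c2) + 9 ∧
        (c.2.2 : ℤ) = (c1 * c2) ^ 2 := by
  simp only [List.mem_cons, Prod.mk.injEq, List.not_mem_nil, or_false] at hc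
  rcases hc with ⟨rfl, rfl⟩ | ⟨rfl, rfl⟩ | ⟨rfl, rfl⟩ | ⟨rfl, rfl⟩ | ⟨rfl, rfl⟩ | ⟨rfl, rfl⟩ | ⟨rfl, rfl⟩ | ⟨rfl, rfl⟩ | ⟨rfl, rfl⟩ | ⟨rfl, rfl⟩ | ⟨rfl, rfl⟩ | ⟨rfl, rfl⟩
  · exact ⟨(15, 9, 1), by decide, by norm_num, by norm_num, by norm_num⟩
  · exact ⟨(9, 15, 1), by decide, by norm_num, by norm_num, by norm_num⟩
  · exact ⟨(9, 3, 1), by decide, by norm_num, by norm_num, by norm_num⟩
  · exact ⟨(3, 9, 1), by decide, by norm_num, by norm_num, by norm_num⟩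
  · exact ⟨(18, 6, 4), by decide, by norm_num, by norm_num, by norm_num⟩
  · exact ⟨(6, 18, 4), by decide, by norm_num, by norm_num, by norm_num⟩
  · exact ⟨(12, 0, 4), by decide, by norm_num, by norm_num, by norm_num⟩
  · exact ⟨(0, 12, 4), by decide, by norm_num, by norm_num, by norm_num⟩
  · exact ⟨(18, 12, 4), by decide, by norm_num, by norm_num, by norm_num⟩
  · exact ⟨(12, 18, 4), by decide, by norm_num, by norm_num, by norm_num⟩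
  · exact ⟨(6, 0, 4), by decide, by norm_num, by norm_num, by norm_num⟩
  · exact ⟨(0, 6, 4), by decide, by norm_num, by norm_num, by norm_num⟩

theorem main {p f q : ℕ} (hp : p.Prime) (hq : q = p ^ f) (h7 : 7 ≤ q) {c1 c2 k E : ℤ}
    (hc : (c1, c2) ∈ [((1 : ℤ), (1 : ℤ)), (1, -1), (-1, 1), (-1, -1), (1, 2), (1, -2), (-1, 2), (-1, -2), (2, 1), (2, -1),
      (-2, 1), (-2, -1)])
    (hE : E = 3 * (c1 + c2) + 3 * (c1 - c2) * (q : ℤ) ^ 3 + k * ((q : ℤ) ^ 4 + (q : ℤ) ^ 2 + 1)) (hE0 : 0 < E)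
    (hd : E ∣ 18 * (q : ℤ) ^ 6 * ((q : ℤ) - 1) ^ 2 * ((q : ℤ) + 1) ^ 2) :
    E = 6 ∨ E = 6 * (q : ℤ) ^ 3 ∨ 180 * (c1 * c2) ^ 2 * (q : ℤ) ^ 8 ≤ E ^ 2 := by
  by_contra hcon
  push Not at hcon
  obtain ⟨hE6, hE6', hlt⟩ := hcon
  have hqz : (q : ℤ) = (p : ℤ) ^ f := by rw [hq]; push_cast; rfl
  have h7z : (7 : ℤ) ≤ q := by exact_mod_cast h7
  obtain ⟨c, hcL, hA, hB, hw⟩ := exists_L hc
  have hbd : (c1 * c2) ^ 2 ≤ 4 ∧ -3 ≤ c1 + c2 ∧ c1 + c2 ≤ 3 ∧ -3 ≤ c1 - c2 ∧ c1 - c2 ≤ 3 := by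
    simp only [List.mem_cons, Prod.mk.injEq, List.not_mem_nil, or_false] at hc
    rcases hc with ⟨rfl, rfl⟩ | ⟨rfl, rfl⟩ | ⟨rfl, rfl⟩ | ⟨rfl, rfl⟩ | ⟨rfl, rfl⟩ | ⟨rfl, rfl⟩ | ⟨rfl, rfl⟩ | ⟨rfl, rfl⟩ | ⟨rfl, rfl⟩ | ⟨rfl, rfl⟩ | ⟨rfl, rfl⟩ | ⟨rfl, rfl⟩ <;> norm_num
  obtain ⟨hw4, hs1, hs2, hm1, hm2⟩ := hbd
  have hq3 : (0 : ℤ) < (q : ℤ) ^ 3 := by positivity
  have hq8 : (0 : ℤ) < (q : ℤ) ^ 8 := by positivity
  have hq43 : 7 * (q : ℤ) ^ 3 ≤ (q : ℤ) ^ 4 := by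
    rw [pow_succ' (q : ℤ) 3]
    exact mul_le_mul_of_nonneg_right h7z hq3.le
  have hq20 : (0 : ℤ) ≤ (q : ℤ) ^ 2 := by positivity
  have hq33 : (343 : ℤ) ≤ (q : ℤ) ^ 3 := by
    have := pow_le_pow_left₀ (by norm_num) h7z 3
    norm_num at this
    exact this
  -- the upper bound
  have hE27 : E < 27 * (q : ℤ) ^ 4 := by
    by_contra h
    push Not at h
    have h1 : (27 * (q : ℤ) ^ 4) ^ 2 ≤ E ^ 2 := pow_le_pow_left₀ (by positivity) h 2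
    have h2 : (c1 * c2) ^ 2 * (q : ℤ) ^ 8 ≤ 4 * (q : ℤ) ^ 8 := mul_le_mul_of_nonneg_right hw4 hq8.le
    have h3 : (27 * (q : ℤ) ^ 4) ^ 2 = 729 * (q : ℤ) ^ 8 := by ring
    linarith
  have hmq1 : -3 * (q : ℤ) ^ 3 ≤ (c1 - c2) * (q : ℤ) ^ 3 := mul_le_mul_of_nonneg_right hm1 hq3.le
  have hmq2 : (c1 - c2) * (q : ℤ) ^ 3 ≤ 3 * (q : ℤ) ^ 3 := mul_le_mul_of_nonneg_right hm2 hq3.le
  have hN : (0 : ℤ) < (q : ℤ) ^ 4 + (q : ℤ) ^ 2 + 1 := by positivity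
  have hk1 : -2 < k := by
    by_contra h
    push Not at h
    have h1 : k * ((q : ℤ) ^ 4 + (q : ℤ) ^ 2 + 1) ≤ -2 * ((q : ℤ) ^ 4 + (q : ℤ) ^ 2 + 1) :=
      mul_le_mul_of_nonneg_right h hN.le
    linarith
  have hk2 : k < 29 := by
    by_contra h
    push Not at h
    have h1 : 29 * ((q : ℤ) ^ 4 + (q : ℤ) ^ 2 + 1) ≤ k * ((q : ℤ) ^ 4 + (q : ℤ) ^ 2 + 1) :=
      mul_le_mul_of_nonneg_right h hN.le
    linarith
  rcases lt_or_ge q 210 with h210 | h210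
  · -- small `q`
    have h10 : q ≠ 10 := by
      rintro rfl
      have h2 : 2 ∣ p ^ f := by rw [← hq]; norm_num
      have h5 : 5 ∣ p ^ f := by rw [← hq]; norm_num
      have h2' := (Nat.prime_dvd_prime_iff_eq Nat.prime_two hp).1 (Nat.prime_two.dvd_of_dvd_pow h2)
      have h5' := (Nat.prime_dvd_prime_iff_eq Nat.prime_five hp).1 (Nat.prime_five.dvd_of_dvd_pow h5)
      omega
    have hK : ((k + 1).toNat : ℤ) = k + 1 := Int.toNat_of_nonneg (by omega)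
    have hK30 : (k + 1).toNat < 30 := by omega
    have hfin := fin q h210 h7 h10 _ hK30 c hcL
    have hX : (((k + 1).toNat * (q ^ 4 + q ^ 2 + 1) + c.2.1 * q ^ 3 + c.1 : ℕ) : ℤ) -
        ((9 * q ^ 3 + 9 + (q ^ 4 + q ^ 2 + 1) : ℕ) : ℤ) = E := by
      push_cast
      rw [hK, hA, hB, hE]
      ring
    have hev : ((ev q (k + 1).toNat c : ℕ) : ℤ) = E := by
      unfold ev
      rw [Nat.cast_sub (by
        have : ((9 * q ^ 3 + 9 + (q ^ 4 + q ^ 2 + 1) : ℕ) : ℤ) ≤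
          (((k + 1).toNat * (q ^ 4 + q ^ 2 + 1) + c.2.1 * q ^ 3 + c.1 : ℕ) : ℤ) := by linarith
        exact_mod_cast this)]
      exact hX
    unfold chk at hfin
    simp only [Bool.or_eq_true, Bool.not_eq_true', Nat.ble_eq, Nat.beq_eq_true_eq] at hfin
    rcases hfin with (((h | h) | h) | h) | h
    · apply absurd hlt
      push Not
      rw [← hw, ← hev]
      exact_mod_cast h
    · have h1 : (18 * q ^ 6 * (q ^ 2 - 1) ^ 2) % ev q (k + 1).toNat c ≠ 0 := by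
        intro h2
        rw [h2] at h
        exact absurd h (by decide)
      apply h1
      apply Nat.mod_eq_zero_of_dvd
      have h2 : ((ev q (k + 1).toNat c : ℕ) : ℤ) ∣ ((18 * q ^ 6 * (q ^ 2 - 1) ^ 2 : ℕ) : ℤ) := by
        rw [hev]
        have hq1 : 1 ≤ q ^ 2 := Nat.one_le_pow _ _ (by omega)
        push_cast [Nat.cast_sub hq1]
        have e : (18 : ℤ) * (q : ℤ) ^ 6 * ((q : ℤ) ^ 2 - 1) ^ 2 =
          18 * (q : ℤ) ^ 6 * ((q : ℤ) - 1) ^ 2 * ((q : ℤ) + 1) ^ 2 := by ring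
        rw [e]
        exact hd
      exact_mod_cast h2
    · exact hE6 (by rw [← hev, Nat.eq_of_beq_eq_true h]; rfl)
    · exact hE6' (by rw [← hev, Nat.eq_of_beq_eq_true h]; push_cast; rfl)
    · rw [Nat.eq_of_beq_eq_true h] at hev
      rw [← hev] at hE0
      exact absurd hE0 (by norm_num)
  · have h210z : (210 : ℤ) ≤ q := by exact_mod_cast h210
    have hq43' : 210 * (q : ℤ) ^ 3 ≤ (q : ℤ) ^ 4 := by
      rw [pow_succ' (q : ℤ) 3]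
      exact mul_le_mul_of_nonneg_right h210z hq3.le
    have hk0 : 0 ≤ k := by
      by_contra h
      push Not at h
      have h1 : k * ((q : ℤ) ^ 4 + (q : ℤ) ^ 2 + 1) ≤ -1 * ((q : ℤ) ^ 4 + (q : ℤ) ^ 2 + 1) :=
        mul_le_mul_of_nonneg_right (by omega) hN.le
      linarith
    have hk27 : k ≤ 27 := by
      by_contra h
      push Not at h
      have h1 : 28 * ((q : ℤ) ^ 4 + (q : ℤ) ^ 2 + 1) ≤ k * ((q : ℤ) ^ 4 + (q : ℤ) ^ 2 + 1) :=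
        mul_le_mul_of_nonneg_right (by omega) hN.le
      linarith
    rcases hk0.lt_or_eq with hk0 | hk0
    · exact large hp hqz h210z hc hk0 hk27 hE hd
    · rw [← hk0, zero_mul, add_zero] at hE
      rcases kzero hp hqz h210z hc hE hE0 hd with h | h
      · exact hE6 h
      · exact hE6' h

theorem cop {D n c : ℤ} (hodd : ¬ (2 : ℤ) ∣ n) (hc : c = 1 ∨ c = -1 ∨ c = 2 ∨ c = -2) (h : n ∣ D - c) :
    IsCoprime D n := by
  obtain ⟨t, ht⟩ := h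
  obtain ⟨s, hs⟩ : ∃ s, n = 2 * s + 1 := ⟨n / 2, by omega⟩
  rcases hc with rfl | rfl | rfl | rfl
  · exact ⟨1, -t, by linear_combination ht⟩
  · exact ⟨-1, t, by linear_combination -ht⟩
  · exact ⟨-s, 1 + s * t, by linear_combination -s * ht + hs⟩
  · exact ⟨s, 1 - s * t, by linear_combination s * ht + hs⟩

theorem cop36 (Q : ℤ) : IsCoprime (Q ^ 2 + Q + 1) (Q ^ 2 - Q + 1) := by
  obtain ⟨t, rfl | rfl⟩ := Int.even_or_odd' Q
  · exact ⟨1 - (2 * t ^ 2 + t) * (1 - 2 * t), -((2 * t ^ 2 + t) * (2 * t + 1)), by ring⟩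
  · exact ⟨-t, 1 + t, by ring⟩

/-- **Degrees.** -/
theorem deg_g2 {p f q D n1 n2 e1 e2 : ℕ} {c1 c2 : ℤ} (hp : p.Prime) (hq : q = p ^ f) (h7 : 7 ≤ q)
    (hn1 : n1 * e1 = q ^ 2 + q + 1) (he1 : e1 ∣ 3) (hn2 : n2 * e2 = q ^ 2 - q + 1) (he2 : e2 ∣ 3)
    (hD0 : 0 < D) (hD : D ∣ q ^ 6 * ((q ^ 2 - 1) * (q ^ 6 - 1)))
    (hc1 : c1 = 1 ∨ c1 = -1 ∨ c1 = 2 ∨ c1 = -2) (hc2 : c2 = 1 ∨ c2 = -1 ∨ c2 = 2 ∨ c2 = -2)
    (hc : ¬ (|c1| = 2 ∧ |c2| = 2)) (h1 : (n1 : ℤ) ∣ D - c1) (h2 : (n2 : ℤ) ∣ D - c2) :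
    D = 1 ∨ D = q ^ 3 ∨ 5 * (c1 * c2) ^ 2 * (q : ℤ) ^ 8 ≤ (D : ℤ) ^ 2 := by
  have hn1z : (n1 : ℤ) * e1 = (q : ℤ) ^ 2 + q + 1 := by exact_mod_cast hn1
  have hqq : q ≤ q ^ 2 := by nlinarith
  have hn2z : (n2 : ℤ) * e2 = (q : ℤ) ^ 2 - q + 1 := by
    have h := congrArg (Nat.cast : ℕ → ℤ) hn2
    push_cast [Nat.cast_sub hqq] at h
    exact h
  have hpar : (2 : ℤ) ∣ (q : ℤ) * (q + 1) := (Int.even_mul_succ_self (q : ℤ)).two_dvd
  have ho1 : ¬ (2 : ℤ) ∣ n1 := by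
    intro h
    have h3 : (2 : ℤ) ∣ (q : ℤ) ^ 2 + q + 1 := hn1z ▸ h.mul_right _
    have h4 := dvd_sub h3 hpar
    rw [show (q : ℤ) ^ 2 + q + 1 - (q : ℤ) * (q + 1) = 1 by ring] at h4
    omega
  have ho2 : ¬ (2 : ℤ) ∣ n2 := by
    intro h
    have h3 : (2 : ℤ) ∣ (q : ℤ) ^ 2 - q + 1 := hn2z ▸ h.mul_right _
    have h4 := dvd_sub h3 hpar
    rw [show (q : ℤ) ^ 2 - q + 1 - (q : ℤ) * (q + 1) = 1 - 2 * q by ring] at h4
    omega
  have k1 := cop ho1 hc1 h1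
  have k2 := cop ho2 hc2 h2
  have he : (e1 : ℤ) * e2 ∣ 3 := by
    rcases (Nat.dvd_prime Nat.prime_three).1 he1 with rfl | rfl
    · rw [Nat.cast_one, one_mul]
      exact_mod_cast he2
    · rcases (Nat.dvd_prime Nat.prime_three).1 he2 with rfl | rfl
      · norm_num
      · exfalso
        push_cast at hn1z hn2z
        have h3 : (3 : ℤ) ∣ (q : ℤ) ^ 2 + q + 1 := ⟨n1, by rw [← hn1z]; ring⟩
        have h4 : (3 : ℤ) ∣ (q : ℤ) ^ 2 - q + 1 := ⟨n2, by rw [← hn2z]; ring⟩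
        have h5 := dvd_sub h3 h4
        rw [show (q : ℤ) ^ 2 + q + 1 - ((q : ℤ) ^ 2 - q + 1) = 2 * q by ring] at h5
        have h6 : (3 : ℤ) ∣ q := by omega
        have h7 := dvd_sub h3 (h6.mul_right ((q : ℤ) + 1))
        rw [show (q : ℤ) ^ 2 + q + 1 - (q : ℤ) * (q + 1) = 1 by ring] at h7
        omega
  have hDz : (D : ℤ) ∣ 3 * ((q : ℤ) ^ 6 * ((q : ℤ) ^ 2 - 1) ^ 2) := by
    have hq2 : 1 ≤ q ^ 2 := Nat.one_le_pow _ _ (by omega)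
    have hq6 : 1 ≤ q ^ 6 := Nat.one_le_pow _ _ (by omega)
    have h3 : (D : ℤ) ∣ ((q ^ 6 * ((q ^ 2 - 1) * (q ^ 6 - 1)) : ℕ) : ℤ) := by exact_mod_cast hD
    push_cast [Nat.cast_sub hq2, Nat.cast_sub hq6] at h3
    have h4 : (q : ℤ) ^ 6 * (((q : ℤ) ^ 2 - 1) * ((q : ℤ) ^ 6 - 1)) =
        ((e1 : ℤ) * e2 * ((q : ℤ) ^ 6 * ((q : ℤ) ^ 2 - 1) ^ 2)) * n1 * n2 := by
      have e : (q : ℤ) ^ 6 - 1 = ((q : ℤ) ^ 2 - 1) * (((q : ℤ) ^ 2 + q + 1) * ((q : ℤ) ^ 2 - q + 1)) := by ring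
      rw [e, ← hn1z, ← hn2z]
      ring
    rw [h4] at h3
    have h5 := k1.dvd_of_dvd_mul_right (k2.dvd_of_dvd_mul_right h3)
    exact h5.trans (mul_dvd_mul_right he _)
  have hE : (6 * (D : ℤ)) ∣ 18 * (q : ℤ) ^ 6 * ((q : ℤ) - 1) ^ 2 * ((q : ℤ) + 1) ^ 2 := by
    have e : 18 * (q : ℤ) ^ 6 * ((q : ℤ) - 1) ^ 2 * ((q : ℤ) + 1) ^ 2 =
      6 * (3 * ((q : ℤ) ^ 6 * ((q : ℤ) ^ 2 - 1) ^ 2)) := by ring
    rw [e]
    exact mul_dvd_mul_left 6 hDz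
  have g1 : (q : ℤ) ^ 2 + q + 1 ∣ 6 * (D : ℤ) - 3 * (c1 + c2) - 3 * (c1 - c2) * (q : ℤ) ^ 3 := by
    have h3 : (n1 : ℤ) * e1 ∣ (D - c1) * 3 := mul_dvd_mul h1 (by exact_mod_cast he1)
    rw [hn1z] at h3
    obtain ⟨t, ht⟩ := h3
    exact ⟨2 * t - 3 * (c1 - c2) * ((q : ℤ) - 1), by linear_combination 2 * ht⟩
  have g2 : (q : ℤ) ^ 2 - q + 1 ∣ 6 * (D : ℤ) - 3 * (c1 + c2) - 3 * (c1 - c2) * (q : ℤ) ^ 3 := by
    have h3 : (n2 : ℤ) * e2 ∣ (D - c2) * 3 := mul_dvd_mul h2 (by exact_mod_cast he2)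
    rw [hn2z] at h3
    obtain ⟨t, ht⟩ := h3
    exact ⟨2 * t - 3 * (c1 - c2) * ((q : ℤ) + 1), by linear_combination 2 * ht⟩
  obtain ⟨k, hk⟩ := (cop36 (q : ℤ)).mul_dvd g1 g2
  have hmem : (c1, c2) ∈ [((1 : ℤ), (1 : ℤ)), (1, -1), (-1, 1), (-1, -1), (1, 2), (1, -2), (-1, 2), (-1, -2), (2, 1),
      (2, -1), (-2, 1), (-2, -1)] := by
    rcases hc1 with rfl | rfl | rfl | rfl <;> rcases hc2 with rfl | rfl | rfl | rfl <;>
      first | decide | exact absurd ⟨by norm_num, by norm_num⟩ hc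
  have hm := main hp hq h7 (k := k) (E := 6 * (D : ℤ)) hmem (by linear_combination hk) (by positivity) hE
  rcases hm with h | h | h
  · left
    have : (D : ℤ) = 1 := by linarith
    exact_mod_cast this
  · right; left
    have : (D : ℤ) = (q : ℤ) ^ 3 := by linarith
    exact_mod_cast this
  · right; right
    nlinarith

end Cfsg.Agent.H983.TC.Num
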