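import Cfsg.Agent.H983.TC.Num

/-!
# `H983.TC.Num.deg_g2` in the form used by the row `G₂(q)` of S2464 (helper983)

`deg_lt` : `D = 1`, `D = q³` or `2 q⁴ |c₁ c₂| < D`.
`deg_lt6` : the same with `n₁ ∣ q² - q + 1` first.
-/

set_option autoImplicit false

namespace Cfsg.Agent.H983.TC.Num

theorem key_of_abs {c1 c2 : ℤ} (hc : |c1 * c2| = 1 ∨ |c1 * c2| = 2) :
    (c1 = 1 ∨ c1 = -1 ∨ c1 = 2 ∨ c1 = -2) ∧ (c2 = 1 ∨ c2 = -1 ∨ c2 = 2 ∨ c2 = -2) ∧ ¬ (|c1| = 2 ∧ |c2| = 2) := by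
  rw [abs_mul] at hc
  have a1 : 0 ≤ |c1| := abs_nonneg _
  have a2 : 0 ≤ |c2| := abs_nonneg _
  have b1 : |c1| ≤ 2 := by
    by_contra h
    push Not at h
    rcases eq_or_lt_of_le a2 with h0 | h0
    · rw [← h0, mul_zero] at hc
      omega
    · have : 3 * 1 ≤ |c1| * |c2| := mul_le_mul (by omega) (by omega) (by norm_num) a1
      omega
  have b2 : |c2| ≤ 2 := by
    by_contra h
    push Not at h
    rcases eq_or_lt_of_le a1 with h0 | h0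
    · rw [← h0, zero_mul] at hc
      omega
    · have : 1 * 3 ≤ |c1| * |c2| := mul_le_mul (by omega) (by omega) (by norm_num) a1
      omega
  have hne1 : c1 ≠ 0 := by
    rintro rfl
    simp at hc
  have hne2 : c2 ≠ 0 := by
    rintro rfl
    simp at hc
  rw [abs_le] at b1 b2
  refine ⟨by omega, by omega, ?_⟩
  rintro ⟨h3, h4⟩
  rw [h3, h4] at hc
  omega

theorem deg_sq {p f q D n1 n2 e1 e2 : ℕ} {c1 c2 : ℤ} (hp : p.Prime) (hq : q = p ^ f) (h7 : 7 ≤ q)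
    (hn1 : n1 * e1 = q ^ 2 + q + 1) (he1 : e1 ∣ 3) (hn2 : n2 * e2 = q ^ 2 - q + 1) (he2 : e2 ∣ 3)
    (hD0 : 0 < D) (hD : D ∣ q ^ 6 * ((q ^ 2 - 1) * (q ^ 6 - 1)))
    (hc : |c1 * c2| = 1 ∨ |c1 * c2| = 2) (h1 : (n1 : ℤ) ∣ D - c1) (h2 : (n2 : ℤ) ∣ D - c2) :
    D = 1 ∨ D = q ^ 3 ∨ 5 * (c1 * c2) ^ 2 * (q : ℤ) ^ 8 ≤ (D : ℤ) ^ 2 := by
  obtain ⟨k1, k2, k3⟩ := key_of_abs hc
  exact deg_g2 hp hq h7 hn1 he1 hn2 he2 hD0 hD k1 k2 k3 h1 h2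

theorem deg_lt {p f q D n1 n2 e1 e2 : ℕ} {c1 c2 : ℤ} (hp : p.Prime) (hq : q = p ^ f) (h7 : 7 ≤ q)
    (hn1 : n1 * e1 = q ^ 2 + q + 1) (he1 : e1 ∣ 3) (hn2 : n2 * e2 = q ^ 2 - q + 1) (he2 : e2 ∣ 3)
    (hD0 : 0 < D) (hD : D ∣ q ^ 6 * ((q ^ 2 - 1) * (q ^ 6 - 1)))
    (hc : |c1 * c2| = 1 ∨ |c1 * c2| = 2) (h1 : (n1 : ℤ) ∣ D - c1) (h2 : (n2 : ℤ) ∣ D - c2) :
    D = 1 ∨ D = q ^ 3 ∨ 2 * (q : ℤ) ^ 4 * |c1 * c2| < D := by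
  rcases deg_sq hp hq h7 hn1 he1 hn2 he2 hD0 hD hc h1 h2 with h | h | h
  · exact Or.inl h
  · exact Or.inr (Or.inl h)
  · right; right
    have hx : 0 < |c1 * c2| := by omega
    have hq4 : (0 : ℤ) < (q : ℤ) ^ 4 := by
      have : (0 : ℤ) < q := by exact_mod_cast (by omega : 0 < q)
      positivity
    have h3 : (2 * (q : ℤ) ^ 4 * |c1 * c2|) ^ 2 < (D : ℤ) ^ 2 := by
      refine lt_of_lt_of_le ?_ h
      rw [mul_pow, mul_pow, sq_abs, ← pow_mul]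
      have h4 : (0 : ℤ) < (c1 * c2) ^ 2 * (q : ℤ) ^ 8 := by
        have h5 : (c1 * c2) ≠ 0 := abs_pos.1 hx
        have : (0 : ℤ) < (c1 * c2) ^ 2 := by positivity
        have h6 : (0 : ℤ) < (q : ℤ) ^ 8 := by
          have : (0 : ℤ) < q := by exact_mod_cast (by omega : 0 < q)
          positivity
        exact mul_pos this h6
      have h7 : (2 : ℤ) ^ 2 * (q : ℤ) ^ (4 * 2) * (c1 * c2) ^ 2 = 4 * ((c1 * c2) ^ 2 * (q : ℤ) ^ 8) := by ring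
      have h8 : (5 : ℤ) * (c1 * c2) ^ 2 * (q : ℤ) ^ 8 = 5 * ((c1 * c2) ^ 2 * (q : ℤ) ^ 8) := by ring
      rw [h7, h8]
      linarith
    exact lt_of_pow_lt_pow_left₀ 2 (by positivity) h3

theorem deg_lt6 {p f q D n1 n2 e1 e2 : ℕ} {c1 c2 : ℤ} (hp : p.Prime) (hq : q = p ^ f) (h7 : 7 ≤ q)
    (hn1 : n1 * e1 = q ^ 2 - q + 1) (he1 : e1 ∣ 3) (hn2 : n2 * e2 = q ^ 2 + q + 1) (he2 : e2 ∣ 3)
    (hD0 : 0 < D) (hD : D ∣ q ^ 6 * ((q ^ 2 - 1) * (q ^ 6 - 1)))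
    (hc : |c1 * c2| = 1 ∨ |c1 * c2| = 2) (h1 : (n1 : ℤ) ∣ D - c1) (h2 : (n2 : ℤ) ∣ D - c2) :
    D = 1 ∨ D = q ^ 3 ∨ 2 * (q : ℤ) ^ 4 * |c1 * c2| < D := by
  rw [mul_comm c1 c2] at hc ⊢
  exact deg_lt hp hq h7 hn2 he2 hn1 he1 hD0 hD hc h2 h1

end Cfsg.Agent.H983.TC.Num
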