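import Cfsg.Agent.H983.TC.Glue
import Cfsg.Agent.H641.TC6.GTor

/-!
# `Row3 G₂(q)`, `q ≥ 7`, from the middle characters of the two cyclotomic tori (S2464, S2452; helper983)
-/

set_option autoImplicit false

open Cfsg Subgroup

namespace Cfsg.Agent.H983.TC.Glue

open Cfsg.Agent.Characters Cfsg.Agent.H730.OZ Cfsg.Agent.H732.VZ Cfsg.Agent.H65.Ore Cfsg.Agent.H727.TC
open Cfsg.Agent.H641.TC6 Cfsg.Agent.H983.KG2 Cfsg.Agent.H946.Num

universe u

/-- the middle characters of the pair `x`, `y` -/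
def MidData {G : Type u} [Group G] (x y : G) (n1 n2 : ℕ) : Prop :=
  {χ : IrrCharacter G | χ ≠ one1 G ∧ (χ : G → ℂ) x ≠ 0 ∧ (χ : G → ℂ) y ≠ 0}.ncard ≤ 5 ∧
  ∀ χ : IrrCharacter G, χ ≠ one1 G → (χ : G → ℂ) x ≠ 0 → (χ : G → ℂ) y ≠ 0 →
    ∃ c1 c2 : ℤ, (χ : G → ℂ) x = c1 ∧ (χ : G → ℂ) y = c2 ∧ (|c1 * c2| = 1 ∨ |c1 * c2| = 2) ∧
      (n1 : ℤ) ∣ charDegree (χ : G → ℂ) - c1 ∧ (n2 : ℤ) ∣ charDegree (χ : G → ℂ) - c2

theorem MidData.symm {G : Type u} [Group G] {x y : G} {n1 n2 : ℕ} (h : MidData x y n1 n2) : MidData y x n2 n1 := by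
  obtain ⟨h1, h2⟩ := h
  refine ⟨?_, fun χ ha hb hc => ?_⟩
  · have e : {χ : IrrCharacter G | χ ≠ one1 G ∧ (χ : G → ℂ) y ≠ 0 ∧ (χ : G → ℂ) x ≠ 0} =
        {χ : IrrCharacter G | χ ≠ one1 G ∧ (χ : G → ℂ) x ≠ 0 ∧ (χ : G → ℂ) y ≠ 0} := by
      ext χ
      simp only [Set.mem_setOf_eq]
      tauto
    rwa [e]
  · obtain ⟨c1, c2, k1, k2, k3, k4, k5⟩ := h2 χ ha hc hb
    exact ⟨c2, c1, k2, k1, by rwa [mul_comm c2 c1], k5, k4⟩

variable {F : Type} [Field F] [Fintype F]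

/-- **`Row3 G₂(q)` from the middle characters.** -/
theorem row3_of_mids {q : ℕ} (hq : Fintype.card F = q) (h7 : 7 ≤ q) {A3 T3 A6 T6 : Subgroup ↥(Lie.chevG2.group F)}
    (D3 : TorD ↥(Lie.chevG2.group F) (N3 q) (c3 q) 6 A3 T3) (D6 : TorD ↥(Lie.chevG2.group F) (N6 q) (c6 q) 6 A6 T6)
    (hm : ∀ x ∈ A6, ∀ y ∈ A3, x ≠ 1 → y ≠ 1 → MidData x y (c6 q) (c3 q)) :
    H210.TC.Row3 ↥(Lie.chevG2.group F) := by
  obtain ⟨p, hpc⟩ := CharP.exists F
  obtain ⟨f, hp, hf⟩ := FiniteField.card F p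
  have : Fact p.Prime := ⟨hp⟩
  have hG : IsLieTypeChar p ↥(Lie.chevG2.group F) := H447.TC.lie_g2 p (by omega)
  have hpq : p ∣ q := by
    rw [← hq, hf]
    exact dvd_pow_self p f.ne_zero
  have hN3 : ¬ p ∣ N3 q := by
    intro h
    have h1 : p ∣ q ^ 2 + q := by
      have e : q ^ 2 + q = q * (q + 1) := by ring
      rw [e]
      exact hpq.mul_right _
    have h2 : p ∣ 1 := (Nat.dvd_add_right h1).1 h
    exact hp.one_lt.ne' (Nat.dvd_one.1 h2)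
  have hN6 : ¬ p ∣ N6 q := by
    intro h
    have h1 : p ∣ q ^ 2 - q := by
      have e : q ^ 2 - q = q * (q - 1) := by
        rw [Nat.mul_sub, mul_one, sq]
      rw [e]
      exact hpq.mul_right _
    have h2 : p ∣ 1 := (Nat.dvd_add_right h1).1 h
    exact hp.one_lt.ne' (Nat.dvd_one.1 h2)
  -- elements of prime order
  have hgt3 : c3 q ≠ 1 := by
    intro h
    have h1 := c3_mul q
    have h2 : Nat.gcd 3 (N3 q) ≤ 3 := Nat.gcd_le_left _ (by norm_num)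
    have h3 : 7 < N3 q := by unfold N3; nlinarith
    rw [h, mul_one] at h1
    omega
  have hgt6 : c6 q ≠ 1 := by
    intro h
    have h1 := c6_mul q
    have h2 : Nat.gcd 3 (N6 q) ≤ 3 := Nat.gcd_le_left _ (by norm_num)
    have h3 : 3 < N6 q := by
      have h4 : q + q ≤ q ^ 2 := by nlinarith
      show 3 < q ^ 2 - q + 1
      omega
    rw [h, mul_one] at h1
    omega
  obtain ⟨r3, hr3, hd3⟩ := Nat.exists_prime_and_dvd hgt3
  obtain ⟨r6, hr6, hd6⟩ := Nat.exists_prime_and_dvd hgt6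
  have : Fact r3.Prime := ⟨hr3⟩
  have : Fact r6.Prime := ⟨hr6⟩
  obtain ⟨y, hy⟩ := exists_prime_orderOf_dvd_card' (G := A3) r3 (by rw [D3.cardA]; exact hd3)
  obtain ⟨x, hx⟩ := exists_prime_orderOf_dvd_card' (G := A6) r6 (by rw [D6.cardA]; exact hd6)
  have hyo : orderOf (y : ↥(Lie.chevG2.group F)) = r3 := by rw [Subgroup.orderOf_coe, hy]
  have hxo : orderOf (x : ↥(Lie.chevG2.group F)) = r6 := by rw [Subgroup.orderOf_coe, hx]
  have hy1 : (y : ↥(Lie.chevG2.group F)) ≠ 1 := by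
    intro h
    rw [h, orderOf_one] at hyo
    exact hr3.one_lt.ne hyo
  have hx1 : (x : ↥(Lie.chevG2.group F)) ≠ 1 := by
    intro h
    rw [h, orderOf_one] at hxo
    exact hr6.one_lt.ne hxo
  have hcy : ¬ p ∣ Nat.card (centralizer ({(y : ↥(Lie.chevG2.group F))} : Set ↥(Lie.chevG2.group F))) := by
    rw [D3.cent y y.2 hy1, D3.cardT]
    exact hN3
  have hcx : ¬ p ∣ Nat.card (centralizer ({(x : ↥(Lie.chevG2.group F))} : Set ↥(Lie.chevG2.group F))) := by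
    rw [D6.cent x x.2 hx1, D6.cardT]
    exact hN6
  have hox : ¬ p ∣ orderOf (x : ↥(Lie.chevG2.group F)) := by
    intro h
    have h1 : (x : ↥(Lie.chevG2.group F)) ∈ T6 := D6.le x.2
    have h2 := Subgroup.orderOf_dvd_natCard T6 h1
    rw [D6.cardT] at h2
    exact hN6 (h.trans h2)
  have hdat := (hm x x.2 y y.2 hx1 hy1).symm
  have key : ∀ g : ↥(Lie.chevG2.group F), g ≠ 1 → ∃ u v : ↥(Lie.chevG2.group F),
      g = (u * y * u⁻¹) * (v * x * v⁻¹) := by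
    intro g hg
    subst hq
    exact glue p h7 hcy hcx (n1 := c3 (Fintype.card F)) (n2 := c6 (Fintype.card F))
      (e1 := Nat.gcd 3 (N3 (Fintype.card F))) (e2 := Nat.gcd 3 (N6 (Fintype.card F)))
      (by rw [mul_comm, c3_mul]; rfl) (Nat.gcd_dvd_left _ _) (by rw [mul_comm, c6_mul]; rfl) (Nat.gcd_dvd_left _ _)
      hdat.1 hdat.2 g hg
  exact ⟨y, x, by rw [hyo]; exact hr3, by rw [hyo]; exact (c3_six q).coprime_dvd_left hd3, by rw [hxo]; exact hr6,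
    by rw [hxo]; exact (c6_six q).coprime_dvd_left hd6, key, cube_of_gow hp hG hcy hy1 hox hx1 key⟩

end Cfsg.Agent.H983.TC.Glue
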