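import Cfsg.Agent.H983.TC.Fin
import Cfsg.Agent.H447.TC.ToriReal

/-!
# `Row3 G₂(q)`, `q ≥ 9`, from the values on the two cyclotomic tori (S2464, S2452; helper983)
-/

set_option autoImplicit false

open Cfsg Subgroup

namespace Cfsg.Agent.H983.TC.Glue

open Cfsg.Agent.Characters Cfsg.Agent.H730.OZ Cfsg.Agent.H732.VZ Cfsg.Agent.H65.Ore Cfsg.Agent.H727.TC
open Cfsg.Agent.H641.TC6 Cfsg.Agent.H983.KG2 Cfsg.Agent.H946.Num

universe u

/-- the torus data when `A = T` -/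
theorem tor_one {G : Type u} [Group G] [Finite G] {m n : ℕ} {A T : Subgroup G} (D : TorD G m n 6 A T) (h : n = m) :
    A = T ∧ (∀ a ∈ T, ∀ b ∈ T, a * b = b * a) ∧ (∀ a ∈ T, a ≠ 1 → centralizer ({a} : Set G) ≤ T) ∧
      T.relIndex (normalizer (T : Set G)) = 6 := by
  have hAT : A = T := Subgroup.eq_of_le_of_card_ge D.le (by rw [D.cardA, D.cardT, h])
  refine ⟨hAT, fun a ha b hb => comm_of_cyc D.cycT ha hb, fun a ha ha1 => ?_, ?_⟩
  · rw [D.cent a (by rwa [hAT]) ha1]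
  · have h1 : Nat.card (T.subgroupOf (normalizer (T : Set G))) = m := by
      rw [← D.cardT]
      exact Nat.card_congr (Subgroup.subgroupOfEquivOfLe le_normalizer).toEquiv
    have h2 := Subgroup.card_mul_index (T.subgroupOf (normalizer (T : Set G)))
    have h3 : Nat.card (normalizer (T : Set G)) = 6 * m := by rw [← D.normA, D.cardN]
    rw [h1, h3, mul_comm 6 m] at h2
    have hm : 0 < m := by rw [← D.cardT]; exact Nat.card_pos
    exact Nat.eq_of_mul_eq_mul_left hm h2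

variable {F : Type} [Field F] [Fintype F]

/-- **`Row3 G₂(q)` from the values.** -/
theorem row3_of_vals {q : ℕ} (hq : Fintype.card F = q) (h9 : 9 ≤ q) {A3 T3 A6 T6 : Subgroup ↥(Lie.chevG2.group F)}
    (D3 : TorD ↥(Lie.chevG2.group F) (N3 q) (c3 q) 6 A3 T3) (D6 : TorD ↥(Lie.chevG2.group F) (N6 q) (c6 q) 6 A6 T6)
    (hv : ∀ x ∈ A6, ∀ y ∈ A3, x ≠ 1 → y ≠ 1 → ∀ χ : IrrCharacter ↥(Lie.chevG2.group F), χ ≠ one1 _ →
      (χ : ↥(Lie.chevG2.group F) → ℂ) x ≠ 0 → (χ : ↥(Lie.chevG2.group F) → ℂ) y ≠ 0 →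
      ∃ c c' : ℤ, (∀ t ∈ A6, t ≠ 1 → (χ : ↥(Lie.chevG2.group F) → ℂ) t = c) ∧
        (∀ t ∈ A3, t ≠ 1 → (χ : ↥(Lie.chevG2.group F) → ℂ) t = c') ∧ |c| ≤ 2 ∧ |c'| ≤ 2) :
    H210.TC.Row3 ↥(Lie.chevG2.group F) := by
  refine row3_of_mids hq (by omega) D3 D6 fun x hx y hy hx1 hy1 => ?_
  obtain ⟨p, hpc⟩ := CharP.exists F
  obtain ⟨f, hp, hf⟩ := FiniteField.card F p
  have : Fact p.Prime := ⟨hp⟩
  have hG : IsLieTypeChar p ↥(Lie.chevG2.group F) := H447.TC.lie_g2 p (by omega)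
  have hpq : p ∣ q := by
    rw [← hq, hf]
    exact dvd_pow_self p f.ne_zero
  have hN3 : ¬ p ∣ N3 q := by
    intro h
    have h1 : p ∣ q ^ 2 + q := by
      have e : q ^ 2 + q = q * (q + 1) := by ring
      rw [e]
      exact hpq.mul_right _
    have h2 : p ∣ 1 := (Nat.dvd_add_right h1).1 h
    exact hp.one_lt.ne' (Nat.dvd_one.1 h2)
  have hN6 : ¬ p ∣ N6 q := by
    intro h
    have h1 : p ∣ q ^ 2 - q := by
      have e : q ^ 2 - q = q * (q - 1) := by
        rw [Nat.mul_sub, mul_one, sq]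
      rw [e]
      exact hpq.mul_right _
    have h2 : p ∣ 1 := (Nat.dvd_add_right h1).1 h
    exact hp.one_lt.ne' (Nat.dvd_one.1 h2)
  have hpG : p ∣ Nat.card ↥(Lie.chevG2.group F) := by
    rw [S1059.result hq]
    exact ((hpq.trans (dvd_pow_self q (by norm_num))).mul_right _).mul_right _
  have hcy : ¬ p ∣ Nat.card (centralizer ({y} : Set ↥(Lie.chevG2.group F))) := by
    rw [D3.cent y hy hy1, D3.cardT]
    exact hN3
  have hcx : ¬ p ∣ Nat.card (centralizer ({x} : Set ↥(Lie.chevG2.group F))) := by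
    rw [D6.cent x hx hx1, D6.cardT]
    exact hN6
  have hxy : ¬ IsConj x y := by
    intro h
    obtain ⟨c, hc⟩ := isConj_iff.1 h
    have h1 : orderOf y = orderOf x := by
      rw [← hc, ← MulAut.conj_apply]
      exact MulEquiv.orderOf_eq (MulAut.conj c) x
    have h2 := Subgroup.orderOf_dvd_natCard A6 hx
    have h3 := Subgroup.orderOf_dvd_natCard A3 hy
    rw [D6.cardA] at h2
    rw [D3.cardA, h1] at h3
    have h4 := Nat.eq_one_of_dvd_coprimes (coprime_c q) h3 h2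
    exact hx1 (orderOf_eq_one_iff.1 h4)
  have hchi1 : ∀ χ : IrrCharacter ↥(Lie.chevG2.group F), (χ : ↥(Lie.chevG2.group F) → ℂ) 1 =
      ((charDegree (χ : ↥(Lie.chevG2.group F) → ℂ) : ℤ) : ℂ) := by
    intro χ
    rw [← H686.CharKit.charDegree_irr χ]
    norm_cast
  -- the torus without `3`
  rcases gcd3 (n := N6 q) with h6 | ⟨-, h6⟩
  · have hcN : c6 q = N6 q := by
      have := c6_mul q
      rwa [h6, one_mul] at this
    obtain ⟨hAT, hab, hc, hw⟩ := tor_one D6 hcN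
    have hk : 49 < Nat.card T6 := by
      rw [D6.cardT]
      show 49 < q ^ 2 - q + 1
      have h4 : 8 * q + q ≤ q ^ 2 := by nlinarith
      omega
    refine midData_of hp hG hpG hab hc hw hk (hAT ▸ hx) hx1 hcx hcy hxy fun χ hχ h1 h2 => ?_
    obtain ⟨c, c', k1, k2, k3, k4⟩ := hv x hx y hy hx1 hy1 χ hχ h1 h2
    refine ⟨c, c', fun t ht ht1 => k1 t (hAT ▸ ht) ht1, k2 y hy hy1, k4, ?_, ?_⟩
    · have := Cfsg.Agent.H221.TC.deg_mod (Core.isIrr_isCharacter χ.2) k1 (hchi1 χ)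
      rwa [D6.cardA] at this
    · have := Cfsg.Agent.H221.TC.deg_mod (Core.isIrr_isCharacter χ.2) k2 (hchi1 χ)
      rwa [D3.cardA] at this
  · have h3 : Nat.gcd 3 (N3 q) = 1 := by
      rcases gcd3 (n := N3 q) with h3 | ⟨-, h3⟩
      · exact h3
      · exfalso
        have h7 : (3 : ℤ) ∣ (q : ℤ) ^ 2 + q + 1 := by
          have : ((3 : ℕ) : ℤ) ∣ ((N3 q : ℕ) : ℤ) := by exact_mod_cast h3
          unfold N3 at this
          push_cast at this
          exact this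
        have h8 : (3 : ℤ) ∣ (q : ℤ) ^ 2 - q + 1 := by
          rw [← cast_N6]
          exact_mod_cast h6
        have h9' := dvd_sub h7 h8
        rw [show (q : ℤ) ^ 2 + q + 1 - ((q : ℤ) ^ 2 - q + 1) = 2 * q by ring] at h9'
        have h10 : (3 : ℤ) ∣ q := by omega
        have h11 := dvd_sub h7 (h10.mul_right ((q : ℤ) + 1))
        rw [show (q : ℤ) ^ 2 + q + 1 - (q : ℤ) * (q + 1) = 1 by ring] at h11
        omega
    have hcN : c3 q = N3 q := by
      have := c3_mul q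
      rwa [h3, one_mul] at this
    obtain ⟨hAT, hab, hc, hw⟩ := tor_one D3 hcN
    have hk : 49 < Nat.card T3 := by
      rw [D3.cardT]
      unfold N3
      nlinarith
    refine (midData_of hp hG hpG hab hc hw hk (hAT ▸ hy) hy1 hcy hcx (fun h => hxy h.symm) fun χ hχ h1 h2 => ?_).symm
    obtain ⟨c, c', k1, k2, k3, k4⟩ := hv x hx y hy hx1 hy1 χ hχ h2 h1
    refine ⟨c', c, fun t ht ht1 => k2 t (hAT ▸ ht) ht1, k1 x hx hx1, k3, ?_, ?_⟩
    · have := Cfsg.Agent.H221.TC.deg_mod (Core.isIrr_isCharacter χ.2) k2 (hchi1 χ)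
      rwa [D3.cardA] at this
    · have := Cfsg.Agent.H221.TC.deg_mod (Core.isIrr_isCharacter χ.2) k1 (hchi1 χ)
      rwa [D6.cardA] at this

end Cfsg.Agent.H983.TC.Glue
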